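import Cfsg.Agent.Lib.KnownB.SLInv.Classify
import Cfsg.Agent.Lib.Chevalley.Data.E6
import Cfsg.Agent.Lib.Chevalley.Data.E6Comm

/-!
The certificate of the involution classes of E6 in characteristic two.
-/

set_option autoImplicit false
set_option maxRecDepth 20000
set_option Elab.async false

namespace CfsgLib.SLInv.E6

open CfsgLib.Chevalley CfsgLib.Chevalley.Data

/-- The certificate. -/
def cert : Cert where
  reps := [[],[71],[66,68],[55,65,67],[46,55,65,67]]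
  grow := [
    [(36, [4,3,2,1,3,4,0,2,3,1], 1), (37, [5,3,2,1,3,4,0,2,3,1], 1), (38, [3,2,1,3,4,0,2,3,1], 1), (39, [4,5,2,1,3,4,0,2,3,1], 1),
      (40, [5,2,1,3,4,0,2,3,1], 1), (41, [2,1,3,4,0,2,3,1], 1), (42, [3,4,5,1,3,4,0,2,3,1], 1), (43, [4,5,1,3,4,0,2,3,1], 1),
      (44, [5,1,3,4,0,2,3,1], 1), (45, [1,3,4,0,2,3,1], 1), (46, [3,4,5,2,3,4,0,2,3,1], 1), (47, [4,5,2,3,4,0,2,3,1], 1),
      (48, [5,2,3,4,0,2,3,1], 1), (49, [2,3,4,0,2,3,1], 1), (50, [4,5,3,4,0,2,3,1], 1), (51, [5,3,4,0,2,3,1], 1),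
      (52, [3,4,0,2,3,1], 1), (53, [5,4,0,2,3,1], 1), (54, [4,0,2,3,1], 1), (55, [0,2,3,1], 1),
      (56, [2,3,4,5,1,3,4,2,3,1], 1), (57, [3,4,5,1,3,4,2,3,1], 1), (58, [4,5,1,3,4,2,3,1], 1), (59, [5,1,3,4,2,3,1], 1),
      (60, [1,3,4,2,3,1], 1), (61, [4,5,3,4,2,3,1], 1), (62, [5,3,4,2,3,1], 1), (63, [3,4,2,3,1], 1),
      (64, [5,4,2,3,1], 1), (65, [4,2,3,1], 1), (66, [2,3,1], 1), (67, [5,4,3,1], 1),
      (68, [4,3,1], 1), (69, [3,1], 1), (70, [1], 1), (71, [], 1)],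
    [(36, [4,3,2,1,3,4,0], 2), (37, [5,3,2,1,3,4,0], 2), (38, [3,2,1,3,4,0], 2), (39, [4,5,2,1,3,4,0], 2),
      (40, [5,2,1,3,4,0], 2), (41, [2,1,3,4,0], 2), (42, [3,4,5,1,3,4,0], 2), (43, [4,5,1,3,4,0], 2),
      (44, [5,1,3,4,0], 2), (45, [1,3,4,0], 2), (56, [2,3,4,5,1,3,2], 2), (57, [3,4,5,1,3,2], 2),
      (58, [4,5,1,3,2], 2), (59, [5,1,3,2], 2), (60, [1,3,2], 2)],
    [(39, [4,5,2,1,3,0], 3), (44, [5,1,3,0], 3), (46, [3,4,5,2,3,0], 3), (47, [4,5,2,3,0], 3),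
      (51, [5,3,0], 3), (53, [5,0], 3)],
    [(46, [], 4)],
    []]
  reds := [
    ([46,55,65,67], [], [(0, 41), (2, 0), (2, 5), (2, 4), (2, 3), (2, 2), (3, 1), (0, 44), (2, 0), (2, 2), (2, 7), (2, 6), (2, 5), (2, 4), (2, 3), (2, 2), (3, 1), (2, 2), (3, 3), (2, 4), (3, 5), (0, 49), (2, 0), (3, 1), (2, 3), (2, 2), (2, 1), (1, 58), (2, 2), (2, 1), (2, 0), (2, 4), (2, 3), (2, 2), (2, 1), (2, 4), (3, 5), (0, 58), (2, 6), (2, 5), (2, 4), (2, 3), (2, 2), (2, 1), (3, 0), (2, 1), (2, 3), (2, 4), (2, 3), (2, 2), (2, 5), (2, 4), (3, 3), (2, 4), (3, 3), (3, 3)])]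
  fins := [[],[71],[68,66],[55,65,67]]

theorem sl : SL E6.tbl where
  valid := E6.valid
  comm := E6.chkComm
  cvco := by decide +kernel
  sym := by decide +kernel
  pairs := by decide +kernel

theorem grow_ok : chkGrow E6.tbl cert = true := by decide +kernel

theorem fin_ok : chkFin E6.tbl cert = true := by decide +kernel

end CfsgLib.SLInv.E6
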