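import Cfsg.Agent.Lib.Chevalley.Twist.OrbitProd
import Cfsg.Agent.Lib.Chevalley.Roots
import Mathlib.Algebra.CharP.Two
import Mathlib.Tactic.LinearCombination

/-!
Simply laced root tables in characteristic two: the commutation rules and closed sets of positive roots.
-/

set_option autoImplicit false
set_option linter.all false

namespace CfsgLib.SLInv

open CfsgLib.Chevalley CfsgLib.Chevalley.Tbl

/-- The check on a pair of roots of a simply laced table. -/
def chkPairSL (T : Tbl) (r s : ℕ) : Bool :=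
  Nat.beq s r || Nat.beq s (T.neg r) ||
    match T.sum? r s with
    | none => (T.commT r s).isEmpty && (decide (T.pair r s = 0) ||
        (decide (T.pair r s = 1) &&
          match T.sum? r (T.neg s) with
          | none => false
          | some (d, _) =>
            match T.sum? s d with
            | none => false
            | some (v, _) => Nat.beq v r))
    | some (u, _) => decide (T.pair r s = -1) &&
        (match T.commT r s with
          | [(c, z, i, j)] => Nat.beq c u && decide (z % 2 ≠ 0) && Nat.beq i 1 && Nat.beq j 1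
          | _ => false) &&
        match T.sum? (T.neg r) u with
        | none => false
        | some (v, _) => Nat.beq v s

/-- A simply laced table. -/
structure SL (T : Tbl) : Prop where
  valid : T.Valid
  comm : T.chkComm = true
  cvco : allLt (fun r => allLt (fun i => decide (T.cv r i = T.co r i)) T.rank) T.n = true
  sym : allLt (fun i => allLt (fun j => decide (T.ca i (T.simple j) = T.ca j (T.simple i))) T.rank) T.rank = true
  pairs : allLt (fun r => allLt (chkPairSL T r) T.n) T.n = true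

variable {T : Tbl} (h : SL T)
include h

theorem cv_co {r i : ℕ} (hr : r < T.n) (hi : i < T.rank) : T.cv r i = T.co r i := by
  simpa using allLt_iff.mp (allLt_iff.mp h.cvco r hr) i hi

theorem pair_eq {r s : ℕ} (hr : r < T.n) (hs : s < T.n) :
    T.pair r s = ∑ i : Fin T.rank, ∑ j : Fin T.rank, T.co r i * T.co s j * T.ca i (T.simple j) := by
  rw [pair_eq_sum]
  refine Finset.sum_congr rfl fun i _ => ?_
  rw [cv_co h hr i.2, ca_eq h.valid hs i.2, list_sum_range, Finset.mul_sum]
  exact Finset.sum_congr rfl fun j _ => (mul_assoc _ _ _).symm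

theorem pair_symm {r s : ℕ} (hr : r < T.n) (hs : s < T.n) : T.pair r s = T.pair s r := by
  rw [pair_eq h hr hs, pair_eq h hs hr, Finset.sum_comm]
  refine Finset.sum_congr rfl fun i _ => Finset.sum_congr rfl fun j _ => ?_
  have e : T.ca (j : ℕ) (T.simple i) = T.ca (i : ℕ) (T.simple j) := by
    simpa using allLt_iff.mp (allLt_iff.mp h.sym j j.2) i i.2
  rw [e]; ring

theorem pair_neg {r s : ℕ} (hr : r < T.n) (hs : s < T.n) : T.pair r (T.neg s) = -T.pair r s := by
  rw [pair_eq_sum, pair_eq_sum, ← Finset.sum_neg_distrib]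
  exact Finset.sum_congr rfl fun i _ => by rw [ca_neg h.valid hs i.2]; ring

theorem pair_self' {r : ℕ} (hr : r < T.n) : T.pair r r = 2 := pair_self h.valid hr

theorem pair_neg_self {r : ℕ} (hr : r < T.n) : T.pair r (T.neg r) = -2 := by
  rw [pair_neg h hr hr, pair_self' h hr]

theorem pair_sum {q r s u : ℕ} {N : ℤ} (hq : q < T.n) (hr : r < T.n) (hs : s < T.n)
    (e : T.sum? r s = some (u, N)) : T.pair u q = T.pair r q + T.pair s q := by
  rw [pair_eq_sum, pair_eq_sum, pair_eq_sum, ← Finset.sum_add_distrib]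
  refine Finset.sum_congr rfl fun i _ => ?_
  rw [cv_co h (sum?_lt h.valid hr hs e) i.2, cv_co h hr i.2, cv_co h hs i.2, co_sum h.valid hr hs e i.2]
  ring

theorem ht_sum {r s u : ℕ} {N : ℤ} (hr : r < T.n) (hs : s < T.n)
    (e : T.sum? r s = some (u, N)) : T.ht u = T.ht r + T.ht s := by
  simp only [Tbl.ht, list_sum_range]
  rw [← Finset.sum_add_distrib]
  exact Finset.sum_congr rfl fun i _ => co_sum h.valid hr hs e i.2

theorem pos_sum {r s u : ℕ} {N : ℤ} (hr : r < T.n) (hs : s < T.n) (e : T.sum? r s = some (u, N))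
    (pr : T.half ≤ r) (ps : T.half ≤ s) : T.half ≤ u :=
  isPos_iff.mp (((sum?_facts h.valid hr hs e).2.2.2.2.2.2.2.1 (isPos_iff.mpr pr)).2.1 (isPos_iff.mpr ps))

theorem pos_facts {r : ℕ} (hr : r < T.n) (pr : T.half ≤ r) : 1 ≤ T.ht r ∧ T.neg r < T.half := by
  refine ⟨ht_pos h.valid hr (isPos_iff.mpr pr), ?_⟩
  unfold Tbl.neg Tbl.n at *
  omega

theorem pair_facts {r s : ℕ} (hr : r < T.n) (hs : s < T.n) (hne : s ≠ r) (hneg : s ≠ T.neg r) :
    (T.sum? r s = none → T.commT r s = [] ∧ (T.pair r s = 0 ∨ (T.pair r s = 1 ∧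
      ∃ d N N', T.sum? r (T.neg s) = some (d, N) ∧ T.sum? s d = some (r, N')))) ∧
    ∀ u N, T.sum? r s = some (u, N) → T.pair r s = -1 ∧
      (∃ z : ℤ, z % 2 ≠ 0 ∧ T.commT r s = [(u, z, 1, 1)]) ∧ ∃ N', T.sum? (T.neg r) u = some (s, N') := by
  have hc := allLt_iff.mp (allLt_iff.mp h.pairs r hr) s hs
  simp only [chkPairSL, Bool.or_eq_true] at hc
  rcases hc with (hc | hc) | hc
  · exact absurd (Nat.eq_of_beq_eq_true hc) hne
  · exact absurd (Nat.eq_of_beq_eq_true hc) hneg
  cases e : T.sum? r s with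
  | none =>
    simp only [e, Bool.and_eq_true, Bool.or_eq_true, decide_eq_true_eq, List.isEmpty_iff] at hc
    refine ⟨fun _ => ⟨hc.1, ?_⟩, fun u N e' => by simp at e'⟩
    rcases hc.2 with h0 | ⟨h1, h2⟩
    · exact Or.inl h0
    · refine Or.inr ⟨h1, ?_⟩
      cases e1 : T.sum? r (T.neg s) with
      | none => simp [e1] at h2
      | some p =>
        simp only [e1] at h2
        cases e2 : T.sum? s p.1 with
        | none => simp [e2] at h2
        | some p' =>
          simp only [e2] at h2
          exact ⟨p.1, p.2, p'.2, rfl, by rw [e2, ← Nat.eq_of_beq_eq_true h2]⟩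
  | some p =>
    simp only [e, Bool.and_eq_true, decide_eq_true_eq] at hc
    refine ⟨fun e' => by simp at e', fun u N e' => ?_⟩
    obtain rfl : p = (u, N) := Option.some.inj e'
    obtain ⟨⟨h1, h2⟩, h3⟩ := hc
    refine ⟨h1, ?_, ?_⟩
    · split at h2
      · rename_i c z i j hcomm
        simp only [Bool.and_eq_true, decide_eq_true_eq] at h2
        obtain ⟨⟨⟨a, b⟩, c1⟩, c2⟩ := h2
        exact ⟨z, b, by rw [hcomm, Nat.eq_of_beq_eq_true a, Nat.eq_of_beq_eq_true c1,
          Nat.eq_of_beq_eq_true c2]⟩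
      · simp at h2
    · cases e1 : T.sum? (T.neg r) u with
      | none => simp [e1] at h3
      | some q =>
        simp only [e1] at h3
        exact ⟨q.2, by rw [← Nat.eq_of_beq_eq_true h3]⟩

theorem sum_ne_neg {r s u : ℕ} {N : ℤ} (hr : r < T.n) (hs : s < T.n) (e : T.sum? r s = some (u, N)) :
    s ≠ r ∧ s ≠ T.neg r := by
  constructor
  · rintro rfl
    rw [sum?_self h.valid hr] at e
    exact absurd e (by simp)
  · rintro rfl
    rw [sum?_neg h.valid hr] at e
    exact absurd e (by simp)

theorem sum_pair {r s u : ℕ} {N : ℤ} (hr : r < T.n) (hs : s < T.n) (e : T.sum? r s = some (u, N)) :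
    T.pair r s = -1 :=
  ((pair_facts h hr hs (sum_ne_neg h hr hs e).1 (sum_ne_neg h hr hs e).2).2 u N e).1

theorem sum_cancel {r s u : ℕ} {N : ℤ} (hr : r < T.n) (hs : s < T.n) (e : T.sum? r s = some (u, N)) :
    ∃ N', T.sum? (T.neg r) u = some (s, N') :=
  ((pair_facts h hr hs (sum_ne_neg h hr hs e).1 (sum_ne_neg h hr hs e).2).2 u N e).2.2

theorem sum_of_pair {r s : ℕ} (hr : r < T.n) (hs : s < T.n) (e : T.pair r s = -1) :
    ∃ u N, T.sum? r s = some (u, N) := by
  have hne : s ≠ r := fun q => by rw [q, pair_self' h hr] at e; omega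
  have hneg : s ≠ T.neg r := fun q => by rw [q, pair_neg_self h hr] at e; omega
  cases q : T.sum? r s with
  | none => rcases ((pair_facts h hr hs hne hneg).1 q).2 with h0 | ⟨h1, -⟩ <;> omega
  | some p => exact ⟨p.1, p.2, rfl⟩

theorem diff_of_pair {r s : ℕ} (hr : r < T.n) (hs : s < T.n) (e : T.pair r s = 1) :
    ∃ d N, d < T.n ∧ T.sum? s d = some (r, N) := by
  have hne : s ≠ r := fun q => by rw [q, pair_self' h hr] at e; omega
  have hneg : s ≠ T.neg r := fun q => by rw [q, pair_neg_self h hr] at e; omega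
  cases q : T.sum? r s with
  | none =>
    rcases ((pair_facts h hr hs hne hneg).1 q).2 with h0 | ⟨-, d, N, N', e1, e2⟩
    · omega
    · exact ⟨d, N', sum?_lt h.valid hr (neg_lt' hs) e1, e2⟩
  | some p => have := sum_pair h hr hs q; omega

theorem pair_range {r s : ℕ} (hr : r < T.n) (hs : s < T.n) (hne : s ≠ r) (hneg : s ≠ T.neg r) :
    T.pair r s = -1 ∨ T.pair r s = 0 ∨ T.pair r s = 1 := by
  cases q : T.sum? r s with
  | none => rcases ((pair_facts h hr hs hne hneg).1 q).2 with h0 | ⟨h1, -⟩ <;> omega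
  | some p => exact Or.inl (sum_pair h hr hs q)

section Group

variable {F : Type*} [Field F] [CharP F 2]

omit h in
theorem two_zero : (2 : F) = 0 := CharTwo.two_eq_zero

omit h in
theorem odd_cast {z : ℤ} (hz : z % 2 ≠ 0) : (z : F) = 1 := by
  obtain ⟨k, rfl⟩ : ∃ k, z = 2 * k + 1 := ⟨z / 2, by omega⟩
  push_cast
  linear_combination (k : F) * (CharTwo.two_eq_zero (R := F))

omit [CharP F 2] in
/-- Root elements with pairing not minus one commute. -/
theorem commute {r s : ℕ} (hr : r < T.n) (hs : s < T.n) (e : 0 ≤ T.pair r s) (t u : F) :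
    Commute (T.xU F r t) (T.xU F s u) := by
  have hneg : s ≠ T.neg r := fun q => by rw [q, pair_neg_self h hr] at e; omega
  refine commute_xU h.valid h.comm hr hs hneg (fun c hc => ?_) t u
  by_cases hne : s = r
  · subst hne
    cases q : T.commT s s with
    | nil => rw [q] at hc; simp at hc
    | cons a l =>
      exfalso
      rw [Tbl.commT] at hc
      simp [Tbl.chain, Tbl.step, sum?_self h.valid hr] at hc
  cases q : T.sum? r s with
  | none => rw [((pair_facts h hr hs hne hneg).1 q).1] at hc; simp at hc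
  | some p => have := sum_pair h hr hs q; omega

/-- The commutation rule for two roots whose sum is a root. -/
theorem swap {r s u : ℕ} {N : ℤ} (hr : r < T.n) (hs : s < T.n) (e : T.sum? r s = some (u, N)) (t v : F) :
    T.xU F s v * T.xU F r t = T.xU F r t * T.xU F s v * T.xU F u (t * v) := by
  obtain ⟨hne, hneg⟩ := sum_ne_neg h hr hs e
  obtain ⟨z, hz, hc⟩ := ((pair_facts h hr hs hne hneg).2 u N e).2.1
  rw [comm_xU h.valid h.comm hr hs hne hneg, hc]
  simp [odd_cast hz, CharTwo.neg_eq]

theorem xx_self {r : ℕ} (hr : r < T.n) (t : F) : T.xU F r t * T.xU F r t = 1 := by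
  rw [xU_add h.valid hr, CharTwo.add_self_eq_zero, xU_zero h.valid hr]

theorem xx_inv {r : ℕ} (hr : r < T.n) (t : F) : (T.xU F r t)⁻¹ = T.xU F r t := by
  rw [xU_inv h.valid hr, CharTwo.neg_eq]

omit [CharP F 2] in
theorem closed_of {P : ℕ → Prop}
    (hP : ∀ r < T.n, ∀ s < T.n, P r → P s → ∀ u N, T.sum? r s = some (u, N) → P u) : T.Closed P := by
  intro r hr s hs pr ps hne hneg c hc
  cases q : T.sum? r s with
  | none => rw [((pair_facts h hr hs hne hneg).1 q).1] at hc; simp at hc
  | some p =>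
    obtain ⟨z, -, e⟩ := ((pair_facts h hr hs hne hneg).2 p.1 p.2 q).2.1
    rw [e, List.mem_singleton] at hc
    subst hc
    exact hP r hr s hs pr ps p.1 p.2 q

omit [CharP F 2] in
theorem norm_of {P : ℕ → Prop} {k : ℕ} (hk : k < T.n) (hpk : T.half ≤ k)
    (hpos : ∀ r, P r → T.half ≤ r)
    (hP : ∀ s < T.n, P s → ∀ u N, T.sum? k s = some (u, N) → P u) (t : F) :
    T.xU F k t ∈ Subgroup.normalizer (T.rootGen F P : Set (GL T.I F)) := by
  refine xU_mem_normalizer h.valid h.comm hk (fun s hs ps hne => ?_) t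
  have hneg : s ≠ T.neg k := fun e => by
    have := (pos_facts h hk hpk).2
    have := hpos s ps
    omega
  refine ⟨hneg, fun c hc => ?_⟩
  cases q : T.sum? k s with
  | none => rw [((pair_facts h hk hs hne hneg).1 q).1] at hc; simp at hc
  | some p =>
    obtain ⟨z, -, e⟩ := ((pair_facts h hk hs hne hneg).2 p.1 p.2 q).2.1
    rw [e, List.mem_singleton] at hc
    subst hc
    exact hP s hs ps p.1 p.2 q

omit [CharP F 2] in
theorem conj_mem {P : ℕ → Prop} {g x : GL T.I F}
    (hg : g ∈ Subgroup.normalizer (T.rootGen F P : Set (GL T.I F))) (hx : x ∈ T.rootGen F P) :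
    g * x * g⁻¹ ∈ T.rootGen F P :=
  (Subgroup.mem_normalizer_iff.mp hg x).mp hx

omit [CharP F 2] in
/-- Splitting off one root. -/
theorem split_root {P P' : ℕ → Prop} {k : ℕ} (hk : k < T.n)
    (hcov : ∀ r < T.n, P r → r = k ∨ P' r)
    (hn : ∀ t, T.xU F k t ∈ Subgroup.normalizer (T.rootGen F P' : Set (GL T.I F)))
    {x : GL T.I F} (hx : x ∈ T.rootGen F P) :
    ∃ t, ∃ w ∈ T.rootGen F P', x = T.xU F k t * w := by
  have hle : T.rootGen F P ≤ T.rootGen F (fun s => s = k) ⊔ T.rootGen F P' := by
    refine rootGen_le fun s hs ps t => ?_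
    rcases hcov s hs ps with e | e
    · exact Subgroup.mem_sup_left (xU_mem_rootGen (P := fun s => s = k) hs e t)
    · exact Subgroup.mem_sup_right (xU_mem_rootGen hs e t)
  have hn' : T.rootGen F (fun s => s = k) ≤ Subgroup.normalizer (T.rootGen F P' : Set (GL T.I F)) :=
    rootGen_le fun s _ e t => by subst e; exact hn t
  have := hle hx
  rw [← SetLike.mem_coe, Subgroup.coe_mul_of_left_le_normalizer_right _ _ hn'] at this
  obtain ⟨a, ha, w, hw, rfl⟩ := this
  rw [SetLike.mem_coe, rootGen_eq_singleton h.valid hk, mem_rootSubgroup_iff h.valid hk] at ha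
  obtain ⟨t, rfl⟩ := ha
  exact ⟨t, w, hw, rfl⟩

omit [CharP F 2] in
theorem gprod_support (p : ℕ → Prop) [DecidablePred p] : ∀ (L : List ℕ), (∀ r ∈ L, r < T.n) → ∀ f : ℕ → F,
    T.gprod (L.map fun r => (r, if p r then f r else 0)) =
      T.gprod ((L.filter fun r => decide (p r)).map fun r => (r, f r)) := by
  intro L
  induction L with
  | nil => simp
  | cons k L ih =>
    intro hL f
    rw [List.map_cons, gprod_cons, ih (fun r hr => hL r (List.mem_cons_of_mem _ hr))]
    by_cases hp : p k
    · rw [List.filter_cons_of_pos (by simpa using hp), List.map_cons, gprod_cons, if_pos hp]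
    · rw [List.filter_cons_of_neg (by simpa using hp), if_neg hp, xU_zero h.valid (hL k List.mem_cons_self),
        one_mul]

omit [CharP F 2] in
theorem exists_coord {P : ℕ → Prop} (hP : T.Closed P) (hpos : ∀ r, P r → T.half ≤ r) {x : GL T.I F}
    (hx : x ∈ T.rootGen F P) :
    ∃ f : ℕ → F, (∀ r, ¬ P r → f r = 0) ∧
      x = T.gprod ((List.range' T.half T.half).map fun r => (r, f r)) := by
  classical
  obtain ⟨f, hf⟩ := exists_gprod h.valid h.comm hP T.half T.half (Nat.two_mul _).symm le_rfl x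
    (rootGen_mono (fun r _ pr => ⟨pr, hpos r pr⟩) hx)
  refine ⟨fun r => if P r then f r else 0, fun r hr => if_neg hr, ?_⟩
  rw [gprod_support h P _ (fun r hr => by
    have := (List.mem_range'_1.mp hr).2
    unfold Tbl.n; omega)]
  exact hf

omit [CharP F 2] in
theorem coord_inj {f g : ℕ → F}
    (e : T.gprod ((List.range' T.half T.half).map fun r => (r, f r)) =
      T.gprod ((List.range' T.half T.half).map fun r => (r, g r))) {r : ℕ} (hr : r < T.n)
    (pr : T.half ≤ r) : f r = g r := by
  refine gprod_inj h.valid h.comm List.pairwise_lt_range' (fun s hs => ?_) f g e r ?_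
  · have := List.mem_range'_1.mp hs
    exact ⟨this.1, by unfold Tbl.n; omega⟩
  · unfold Tbl.n at hr
    exact List.mem_range'_1.mpr ⟨pr, by omega⟩

omit [CharP F 2] in
/-- Closed sets of positive roots meet in the common roots. -/
theorem inter_mem {P Q : ℕ → Prop} (hP : T.Closed P) (hQ : T.Closed Q) (hpP : ∀ r, P r → T.half ≤ r)
    (hpQ : ∀ r, Q r → T.half ≤ r) {x : GL T.I F} (hx : x ∈ T.rootGen F P) (hy : x ∈ T.rootGen F Q) :
    x ∈ T.rootGen F (fun r => P r ∧ Q r) := by
  obtain ⟨f, hf, e⟩ := exists_coord h hP hpP hx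
  obtain ⟨g, hg, e'⟩ := exists_coord h hQ hpQ hy
  rw [e]
  refine list_prod_mem fun y hy => ?_
  obtain ⟨p, hp, rfl⟩ := List.mem_map.mp hy
  obtain ⟨r, hr, rfl⟩ := List.mem_map.mp hp
  have hr1 := List.mem_range'_1.mp hr
  have hrn : r < T.n := by unfold Tbl.n; omega
  by_cases hz : f r = 0
  · show T.xU F r (f r) ∈ _
    rw [hz, xU_zero h.valid hrn]
    exact one_mem _
  · refine xU_mem_rootGen (P := fun r => P r ∧ Q r) hrn ⟨?_, ?_⟩ _
    · by_contra hn; exact hz (hf r hn)
    · by_contra hn
      exact hz ((coord_inj h (e.symm.trans e') hrn hr1.1).trans (hg r hn))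

omit [CharP F 2] in
theorem not_mem {Q : ℕ → Prop} (hQ : T.Closed Q) (hpQ : ∀ r, Q r → T.half ≤ r) {k : ℕ} (hk : k < T.n)
    (pk : T.half ≤ k) (hn : ¬ Q k) {t : F} (hx : T.xU F k t ∈ T.rootGen F Q) : t = 0 := by
  classical
  obtain ⟨g, hg, e'⟩ := exists_coord h hQ hpQ hx
  have hk1 : k ∈ List.range' T.half T.half := List.mem_range'_1.mpr ⟨pk, by unfold Tbl.n at hk; omega⟩
  have e : T.xU F k t = T.gprod ((List.range' T.half T.half).map fun r => (r, if r = k then t else 0)) := by
    rw [gprod_support h (fun r => r = k) _ (fun r hr => by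
      have := (List.mem_range'_1.mp hr).2
      unfold Tbl.n; omega) (fun _ => t)]
    have hfil : (List.range' T.half T.half).filter (fun r => decide (r = k)) = [k] := by
      rw [List.filter_eq, List.count_eq_one_of_mem List.nodup_range' hk1, List.replicate_one]
    rw [hfil, List.map_cons, List.map_nil, gprod_cons, gprod_nil, mul_one]
  have := coord_inj h (e.symm.trans e') hk pk
  rw [if_pos rfl, hg k hn] at this
  exact this

end Group

end CfsgLib.SLInv
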