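import Cfsg.Agent.Lib.KnownB.SLInv.Classify
import Cfsg.Agent.Lib.Chevalley.Data.E7
import Cfsg.Agent.Lib.Chevalley.Data.E7Comm

/-!
The certificate of the involution classes of E7 in characteristic two.
-/

set_option autoImplicit false
set_option maxRecDepth 20000
set_option Elab.async false

namespace CfsgLib.SLInv.E7

open CfsgLib.Chevalley CfsgLib.Chevalley.Data

/-- The certificate. -/
def cert : Cert where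
  reps := [[],[125],[92,125],[87,92,125],[63,92,125],[78,87,92,125],[73,87,92,125],[73,78,87,92,125],[66,73,78,87,92,125],[63,66,73,78,87,92,125]]
  grow := [
    [(63, [5,4,3,2,1,3,4,5,0,2,3,4,1,3,2,0], 1), (64, [6,4,3,2,1,3,4,5,0,2,3,4,1,3,2,0], 1), (65, [4,3,2,1,3,4,5,0,2,3,4,1,3,2,0], 1), (66, [5,6,3,2,1,3,4,5,0,2,3,4,1,3,2,0], 1),
      (67, [6,3,2,1,3,4,5,0,2,3,4,1,3,2,0], 1), (68, [3,2,1,3,4,5,0,2,3,4,1,3,2,0], 1), (69, [4,5,6,2,1,3,4,5,0,2,3,4,1,3,2,0], 1), (70, [5,6,2,1,3,4,5,0,2,3,4,1,3,2,0], 1),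
      (71, [6,2,1,3,4,5,0,2,3,4,1,3,2,0], 1), (72, [2,1,3,4,5,0,2,3,4,1,3,2,0], 1), (73, [3,4,5,6,1,3,4,5,0,2,3,4,1,3,2,0], 1), (74, [4,5,6,1,3,4,5,0,2,3,4,1,3,2,0], 1),
      (75, [5,6,1,3,4,5,0,2,3,4,1,3,2,0], 1), (76, [6,1,3,4,5,0,2,3,4,1,3,2,0], 1), (77, [1,3,4,5,0,2,3,4,1,3,2,0], 1), (78, [3,4,5,6,2,3,4,5,0,2,3,4,1,3,2,0], 1),
      (79, [4,5,6,2,3,4,5,0,2,3,4,1,3,2,0], 1), (80, [5,6,2,3,4,5,0,2,3,4,1,3,2,0], 1), (81, [6,2,3,4,5,0,2,3,4,1,3,2,0], 1), (82, [2,3,4,5,0,2,3,4,1,3,2,0], 1),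
      (83, [4,5,6,3,4,5,0,2,3,4,1,3,2,0], 1), (84, [5,6,3,4,5,0,2,3,4,1,3,2,0], 1), (85, [6,3,4,5,0,2,3,4,1,3,2,0], 1), (86, [3,4,5,0,2,3,4,1,3,2,0], 1),
      (87, [5,6,4,5,0,2,3,4,1,3,2,0], 1), (88, [6,4,5,0,2,3,4,1,3,2,0], 1), (89, [4,5,0,2,3,4,1,3,2,0], 1), (90, [6,5,0,2,3,4,1,3,2,0], 1),
      (91, [5,0,2,3,4,1,3,2,0], 1), (92, [0,2,3,4,1,3,2,0], 1), (93, [2,3,4,5,6,1,3,4,5,2,3,4,1,3,2,0], 1), (94, [3,4,5,6,1,3,4,5,2,3,4,1,3,2,0], 1),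
      (95, [4,5,6,1,3,4,5,2,3,4,1,3,2,0], 1), (96, [5,6,1,3,4,5,2,3,4,1,3,2,0], 1), (97, [6,1,3,4,5,2,3,4,1,3,2,0], 1), (98, [1,3,4,5,2,3,4,1,3,2,0], 1),
      (99, [4,5,6,3,4,5,2,3,4,1,3,2,0], 1), (100, [5,6,3,4,5,2,3,4,1,3,2,0], 1), (101, [6,3,4,5,2,3,4,1,3,2,0], 1), (102, [3,4,5,2,3,4,1,3,2,0], 1),
      (103, [5,6,4,5,2,3,4,1,3,2,0], 1), (104, [6,4,5,2,3,4,1,3,2,0], 1), (105, [4,5,2,3,4,1,3,2,0], 1), (106, [6,5,2,3,4,1,3,2,0], 1),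
      (107, [5,2,3,4,1,3,2,0], 1), (108, [2,3,4,1,3,2,0], 1), (109, [5,6,4,5,3,4,1,3,2,0], 1), (110, [6,4,5,3,4,1,3,2,0], 1),
      (111, [4,5,3,4,1,3,2,0], 1), (112, [6,5,3,4,1,3,2,0], 1), (113, [5,3,4,1,3,2,0], 1), (114, [3,4,1,3,2,0], 1),
      (115, [6,5,4,1,3,2,0], 1), (116, [5,4,1,3,2,0], 1), (117, [4,1,3,2,0], 1), (118, [1,3,2,0], 1),
      (119, [6,5,4,3,2,0], 1), (120, [5,4,3,2,0], 1), (121, [4,3,2,0], 1), (122, [3,2,0], 1),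
      (123, [2,0], 1), (124, [0], 1), (125, [], 1)],
    [(63, [5,4,3,2,1,3,4,5], 2), (64, [6,4,3,2,1,3,4,5], 2), (65, [4,3,2,1,3,4,5], 2), (66, [5,6,3,2,1,3,4,5], 2),
      (67, [6,3,2,1,3,4,5], 2), (68, [3,2,1,3,4,5], 2), (69, [4,5,6,2,1,3,4,5], 2), (70, [5,6,2,1,3,4,5], 2),
      (71, [6,2,1,3,4,5], 2), (72, [2,1,3,4,5], 2), (73, [3,4,5,6,1,3,4,5], 2), (74, [4,5,6,1,3,4,5], 2),
      (75, [5,6,1,3,4,5], 2), (76, [6,1,3,4,5], 2), (77, [1,3,4,5], 2), (78, [3,4,5,6,2,3,4,5], 2),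
      (79, [4,5,6,2,3,4,5], 2), (80, [5,6,2,3,4,5], 2), (81, [6,2,3,4,5], 2), (82, [2,3,4,5], 2),
      (83, [4,5,6,3,4,5], 2), (84, [5,6,3,4,5], 2), (85, [6,3,4,5], 2), (86, [3,4,5], 2),
      (87, [5,6,4,5], 2), (88, [6,4,5], 2), (89, [4,5], 2), (90, [6,5], 2),
      (91, [5], 2), (92, [], 2)],
    [(63, [], 4), (66, [3,2,1,3], 3), (69, [4,2,1,3], 3), (70, [2,1,3], 3),
      (73, [3,4,1,3], 3), (74, [4,1,3], 3), (75, [1,3], 3), (78, [3,4,2,3], 3),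
      (79, [4,2,3], 3), (80, [2,3], 3), (83, [4,3], 3), (84, [3], 3),
      (87, [], 3)],
    [(63, [5,6,4,5,0,2,3,4,1,3,2,0], 5), (66, [0,2,3,4,1,3,2,0], 5), (73, [], 6), (78, [], 5)],
    [(87, [5,6,4,5,0,2,3,4,1,3,2,0], 5), (66, [5,6,3,2,1,3,4,5,0,2,3,4,1,3,2,0], 5), (69, [4,5,6,2,1,3,4,5,0,2,3,4,1,3,2,0], 5), (70, [5,6,2,1,3,4,5,0,2,3,4,1,3,2,0], 5),
      (73, [3,4,5,6,1,3,4,5,0,2,3,4,1,3,2,0], 5), (74, [4,5,6,1,3,4,5,0,2,3,4,1,3,2,0], 5), (75, [5,6,1,3,4,5,0,2,3,4,1,3,2,0], 5), (78, [3,4,5,6,2,3,4,5,0,2,3,4,1,3,2,0], 5),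
      (79, [4,5,6,2,3,4,5,0,2,3,4,1,3,2,0], 5), (80, [5,6,2,3,4,5,0,2,3,4,1,3,2,0], 5), (83, [4,5,6,3,4,5,0,2,3,4,1,3,2,0], 5), (84, [5,6,3,4,5,0,2,3,4,1,3,2,0], 5)],
    [(63, [5,6,4,5,3,4,2,3], 7), (66, [3,4,2,3], 7), (73, [], 7)],
    [(78, [], 7), (63, [5,6,4,5,3,4,1,3], 7), (66, [3,4,1,3], 7)],
    [(63, [5,6,4,5], 8), (66, [], 8)],
    [(63, [], 9)],
    []]
  reds := [
    ([73,87,92,125], [], [(0, 94), (2, 0), (2, 4), (2, 3), (2, 2), (3, 1), (0, 87), (2, 0), (3, 1), (2, 4), (2, 3), (2, 2), (2, 1), (0, 103), (2, 0), (2, 2), (2, 1), (3, 3), (2, 6), (2, 5), (2, 4), (2, 3), (3, 2), (2, 3), (2, 5), (3, 6), (0, 108), (2, 0), (2, 2), (2, 1), (2, 3), (2, 5), (2, 4), (2, 3), (2, 2), (2, 6), (2, 5), (3, 4), (2, 5), (3, 4), (3, 4), (3, 3)]),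
    ([73,87,92,125], [78], [(0, 94), (2, 0), (2, 4), (2, 3), (2, 2), (3, 1), (0, 87), (2, 0), (3, 1), (2, 4), (2, 3), (2, 2), (2, 1), (0, 103), (2, 0), (2, 2), (2, 1), (3, 3), (2, 6), (2, 5), (2, 4), (2, 3), (3, 2), (2, 3), (2, 5), (3, 6), (0, 108), (2, 0), (2, 2), (2, 1), (2, 3), (2, 5), (2, 4), (2, 3), (2, 2), (2, 6), (2, 5), (3, 4), (2, 5), (3, 4), (3, 4), (3, 3)]),
    ([66,73,78,87], [92,125], [(0, 70), (2, 0), (2, 1), (2, 3), (2, 2), (2, 4), (2, 7), (2, 6), (2, 5), (2, 4), (3, 3), (0, 73), (2, 0), (3, 1), (2, 5), (2, 4), (2, 3), (2, 2), (2, 1), (3, 5), (0, 74), (2, 0), (2, 2), (2, 1), (2, 3), (2, 2), (2, 4), (2, 6), (2, 5), (3, 4), (2, 5), (2, 4), (2, 7), (2, 6), (2, 5), (2, 4), (3, 3), (2, 4), (2, 5), (3, 6), (0, 79), (2, 0), (2, 2), (2, 1), (2, 3), (2, 5), (2, 4), (2, 3), (2, 2), (2, 6), (2,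 5), (3, 4), (2, 5), (3, 4), (3, 4), (3, 3)]),
    ([63,66,73,125], [78,87,92], [(0, 105), (2, 0), (2, 1), (2, 3), (2, 2), (2, 4), (2, 7), (2, 6), (2, 5), (2, 4), (3, 3), (0, 66), (2, 0), (3, 1), (2, 5), (2, 4), (2, 3), (2, 2), (2, 1), (3, 5), (0, 106), (2, 0), (2, 2), (2, 1), (2, 3), (2, 2), (2, 4), (2, 6), (2, 5), (3, 4), (2, 5), (2, 4), (2, 7), (2, 6), (2, 5), (2, 4), (3, 3), (2, 4), (2, 5), (3, 6), (0, 110), (2, 0), (2, 2), (2, 1), (2, 3), (2, 5), (2, 4), (2, 3), (2, 2), (2, 6), (2, 5), (3, 4), (2, 5), (3, 4), (3, 4), (3, 3)])]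
  fins := [[],[125],[92,125],[87,92,125],[63,92,125],[78,87,92,125]]

theorem sl : SL E7.tbl where
  valid := E7.valid
  comm := E7.chkComm
  cvco := by decide +kernel
  sym := by decide +kernel
  pairs := by decide +kernel

theorem grow_ok : chkGrow E7.tbl cert = true := by decide +kernel

theorem fin_ok : chkFin E7.tbl cert = true := by decide +kernel

end CfsgLib.SLInv.E7
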