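import Cfsg.Agent.Lib.KnownB.SLInv.Classify
import Cfsg.Agent.Lib.Chevalley.Data.E8
import Cfsg.Agent.Lib.Chevalley.Data.E8Comm

/-!
The certificate of the involution classes of E8 in characteristic two.
-/

set_option autoImplicit false
set_option maxRecDepth 20000
set_option Elab.async false

namespace CfsgLib.SLInv.E8

open CfsgLib.Chevalley CfsgLib.Chevalley.Data

/-- The certificate. -/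
def cert : Cert where
  reps := [[],[239],[232,233],[218,222,228],[213,216,220,226],[120,218,222,228],[168,213,216,220,226],[139,168,213,216,220,226],[132,139,168,213,216,220,226],[126,132,139,168,213,216,220,226]]
  grow := [
    [(120, [6,5,4,3,2,1,3,4,5,6,0,2,3,4,5,1,3,4,2,3,0,2,1,3,4,5,6,7], 1), (121, [7,5,4,3,2,1,3,4,5,6,0,2,3,4,5,1,3,4,2,3,0,2,1,3,4,5,6,7], 1), (122, [5,4,3,2,1,3,4,5,6,0,2,3,4,5,1,3,4,2,3,0,2,1,3,4,5,6,7], 1), (123, [6,7,4,3,2,1,3,4,5,6,0,2,3,4,5,1,3,4,2,3,0,2,1,3,4,5,6,7], 1),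
      (124, [7,4,3,2,1,3,4,5,6,0,2,3,4,5,1,3,4,2,3,0,2,1,3,4,5,6,7], 1), (125, [4,3,2,1,3,4,5,6,0,2,3,4,5,1,3,4,2,3,0,2,1,3,4,5,6,7], 1), (126, [5,6,7,3,2,1,3,4,5,6,0,2,3,4,5,1,3,4,2,3,0,2,1,3,4,5,6,7], 1), (127, [6,7,3,2,1,3,4,5,6,0,2,3,4,5,1,3,4,2,3,0,2,1,3,4,5,6,7], 1),
      (128, [7,3,2,1,3,4,5,6,0,2,3,4,5,1,3,4,2,3,0,2,1,3,4,5,6,7], 1), (129, [3,2,1,3,4,5,6,0,2,3,4,5,1,3,4,2,3,0,2,1,3,4,5,6,7], 1), (130, [4,5,6,7,2,1,3,4,5,6,0,2,3,4,5,1,3,4,2,3,0,2,1,3,4,5,6,7], 1), (131, [5,6,7,2,1,3,4,5,6,0,2,3,4,5,1,3,4,2,3,0,2,1,3,4,5,6,7], 1),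
      (132, [6,7,2,1,3,4,5,6,0,2,3,4,5,1,3,4,2,3,0,2,1,3,4,5,6,7], 1), (133, [7,2,1,3,4,5,6,0,2,3,4,5,1,3,4,2,3,0,2,1,3,4,5,6,7], 1), (134, [2,1,3,4,5,6,0,2,3,4,5,1,3,4,2,3,0,2,1,3,4,5,6,7], 1), (135, [3,4,5,6,7,1,3,4,5,6,0,2,3,4,5,1,3,4,2,3,0,2,1,3,4,5,6,7], 1),
      (136, [4,5,6,7,1,3,4,5,6,0,2,3,4,5,1,3,4,2,3,0,2,1,3,4,5,6,7], 1), (137, [5,6,7,1,3,4,5,6,0,2,3,4,5,1,3,4,2,3,0,2,1,3,4,5,6,7], 1), (138, [6,7,1,3,4,5,6,0,2,3,4,5,1,3,4,2,3,0,2,1,3,4,5,6,7], 1), (139, [7,1,3,4,5,6,0,2,3,4,5,1,3,4,2,3,0,2,1,3,4,5,6,7], 1),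
      (140, [1,3,4,5,6,0,2,3,4,5,1,3,4,2,3,0,2,1,3,4,5,6,7], 1), (141, [3,4,5,6,7,2,3,4,5,6,0,2,3,4,5,1,3,4,2,3,0,2,1,3,4,5,6,7], 1), (142, [4,5,6,7,2,3,4,5,6,0,2,3,4,5,1,3,4,2,3,0,2,1,3,4,5,6,7], 1), (143, [5,6,7,2,3,4,5,6,0,2,3,4,5,1,3,4,2,3,0,2,1,3,4,5,6,7], 1),
      (144, [6,7,2,3,4,5,6,0,2,3,4,5,1,3,4,2,3,0,2,1,3,4,5,6,7], 1), (145, [7,2,3,4,5,6,0,2,3,4,5,1,3,4,2,3,0,2,1,3,4,5,6,7], 1), (146, [2,3,4,5,6,0,2,3,4,5,1,3,4,2,3,0,2,1,3,4,5,6,7], 1), (147, [4,5,6,7,3,4,5,6,0,2,3,4,5,1,3,4,2,3,0,2,1,3,4,5,6,7], 1),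
      (148, [5,6,7,3,4,5,6,0,2,3,4,5,1,3,4,2,3,0,2,1,3,4,5,6,7], 1), (149, [6,7,3,4,5,6,0,2,3,4,5,1,3,4,2,3,0,2,1,3,4,5,6,7], 1), (150, [7,3,4,5,6,0,2,3,4,5,1,3,4,2,3,0,2,1,3,4,5,6,7], 1), (151, [3,4,5,6,0,2,3,4,5,1,3,4,2,3,0,2,1,3,4,5,6,7], 1),
      (152, [5,6,7,4,5,6,0,2,3,4,5,1,3,4,2,3,0,2,1,3,4,5,6,7], 1), (153, [6,7,4,5,6,0,2,3,4,5,1,3,4,2,3,0,2,1,3,4,5,6,7], 1), (154, [7,4,5,6,0,2,3,4,5,1,3,4,2,3,0,2,1,3,4,5,6,7], 1), (155, [4,5,6,0,2,3,4,5,1,3,4,2,3,0,2,1,3,4,5,6,7], 1),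
      (156, [6,7,5,6,0,2,3,4,5,1,3,4,2,3,0,2,1,3,4,5,6,7], 1), (157, [7,5,6,0,2,3,4,5,1,3,4,2,3,0,2,1,3,4,5,6,7], 1), (158, [5,6,0,2,3,4,5,1,3,4,2,3,0,2,1,3,4,5,6,7], 1), (159, [7,6,0,2,3,4,5,1,3,4,2,3,0,2,1,3,4,5,6,7], 1),
      (160, [6,0,2,3,4,5,1,3,4,2,3,0,2,1,3,4,5,6,7], 1), (161, [0,2,3,4,5,1,3,4,2,3,0,2,1,3,4,5,6,7], 1), (162, [2,3,4,5,6,7,1,3,4,5,6,2,3,4,5,1,3,4,2,3,0,2,1,3,4,5,6,7], 1), (163, [3,4,5,6,7,1,3,4,5,6,2,3,4,5,1,3,4,2,3,0,2,1,3,4,5,6,7], 1),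
      (164, [4,5,6,7,1,3,4,5,6,2,3,4,5,1,3,4,2,3,0,2,1,3,4,5,6,7], 1), (165, [5,6,7,1,3,4,5,6,2,3,4,5,1,3,4,2,3,0,2,1,3,4,5,6,7], 1), (166, [6,7,1,3,4,5,6,2,3,4,5,1,3,4,2,3,0,2,1,3,4,5,6,7], 1), (167, [7,1,3,4,5,6,2,3,4,5,1,3,4,2,3,0,2,1,3,4,5,6,7], 1),
      (168, [1,3,4,5,6,2,3,4,5,1,3,4,2,3,0,2,1,3,4,5,6,7], 1), (169, [4,5,6,7,3,4,5,6,2,3,4,5,1,3,4,2,3,0,2,1,3,4,5,6,7], 1), (170, [5,6,7,3,4,5,6,2,3,4,5,1,3,4,2,3,0,2,1,3,4,5,6,7], 1), (171, [6,7,3,4,5,6,2,3,4,5,1,3,4,2,3,0,2,1,3,4,5,6,7], 1),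
      (172, [7,3,4,5,6,2,3,4,5,1,3,4,2,3,0,2,1,3,4,5,6,7], 1), (173, [3,4,5,6,2,3,4,5,1,3,4,2,3,0,2,1,3,4,5,6,7], 1), (174, [5,6,7,4,5,6,2,3,4,5,1,3,4,2,3,0,2,1,3,4,5,6,7], 1), (175, [6,7,4,5,6,2,3,4,5,1,3,4,2,3,0,2,1,3,4,5,6,7], 1),
      (176, [7,4,5,6,2,3,4,5,1,3,4,2,3,0,2,1,3,4,5,6,7], 1), (177, [4,5,6,2,3,4,5,1,3,4,2,3,0,2,1,3,4,5,6,7], 1), (178, [6,7,5,6,2,3,4,5,1,3,4,2,3,0,2,1,3,4,5,6,7], 1), (179, [7,5,6,2,3,4,5,1,3,4,2,3,0,2,1,3,4,5,6,7], 1),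
      (180, [5,6,2,3,4,5,1,3,4,2,3,0,2,1,3,4,5,6,7], 1), (181, [7,6,2,3,4,5,1,3,4,2,3,0,2,1,3,4,5,6,7], 1), (182, [6,2,3,4,5,1,3,4,2,3,0,2,1,3,4,5,6,7], 1), (183, [2,3,4,5,1,3,4,2,3,0,2,1,3,4,5,6,7], 1),
      (184, [5,6,7,4,5,6,3,4,5,1,3,4,2,3,0,2,1,3,4,5,6,7], 1), (185, [6,7,4,5,6,3,4,5,1,3,4,2,3,0,2,1,3,4,5,6,7], 1), (186, [7,4,5,6,3,4,5,1,3,4,2,3,0,2,1,3,4,5,6,7], 1), (187, [4,5,6,3,4,5,1,3,4,2,3,0,2,1,3,4,5,6,7], 1),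
      (188, [6,7,5,6,3,4,5,1,3,4,2,3,0,2,1,3,4,5,6,7], 1), (189, [7,5,6,3,4,5,1,3,4,2,3,0,2,1,3,4,5,6,7], 1), (190, [5,6,3,4,5,1,3,4,2,3,0,2,1,3,4,5,6,7], 1), (191, [7,6,3,4,5,1,3,4,2,3,0,2,1,3,4,5,6,7], 1),
      (192, [6,3,4,5,1,3,4,2,3,0,2,1,3,4,5,6,7], 1), (193, [3,4,5,1,3,4,2,3,0,2,1,3,4,5,6,7], 1), (194, [6,7,5,6,4,5,1,3,4,2,3,0,2,1,3,4,5,6,7], 1), (195, [7,5,6,4,5,1,3,4,2,3,0,2,1,3,4,5,6,7], 1),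
      (196, [5,6,4,5,1,3,4,2,3,0,2,1,3,4,5,6,7], 1), (197, [7,6,4,5,1,3,4,2,3,0,2,1,3,4,5,6,7], 1), (198, [6,4,5,1,3,4,2,3,0,2,1,3,4,5,6,7], 1), (199, [4,5,1,3,4,2,3,0,2,1,3,4,5,6,7], 1),
      (200, [7,6,5,1,3,4,2,3,0,2,1,3,4,5,6,7], 1), (201, [6,5,1,3,4,2,3,0,2,1,3,4,5,6,7], 1), (202, [5,1,3,4,2,3,0,2,1,3,4,5,6,7], 1), (203, [1,3,4,2,3,0,2,1,3,4,5,6,7], 1),
      (204, [6,7,5,6,4,5,3,4,2,3,0,2,1,3,4,5,6,7], 1), (205, [7,5,6,4,5,3,4,2,3,0,2,1,3,4,5,6,7], 1), (206, [5,6,4,5,3,4,2,3,0,2,1,3,4,5,6,7], 1), (207, [7,6,4,5,3,4,2,3,0,2,1,3,4,5,6,7], 1),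
      (208, [6,4,5,3,4,2,3,0,2,1,3,4,5,6,7], 1), (209, [4,5,3,4,2,3,0,2,1,3,4,5,6,7], 1), (210, [7,6,5,3,4,2,3,0,2,1,3,4,5,6,7], 1), (211, [6,5,3,4,2,3,0,2,1,3,4,5,6,7], 1),
      (212, [5,3,4,2,3,0,2,1,3,4,5,6,7], 1), (213, [3,4,2,3,0,2,1,3,4,5,6,7], 1), (214, [7,6,5,4,2,3,0,2,1,3,4,5,6,7], 1), (215, [6,5,4,2,3,0,2,1,3,4,5,6,7], 1),
      (216, [5,4,2,3,0,2,1,3,4,5,6,7], 1), (217, [4,2,3,0,2,1,3,4,5,6,7], 1), (218, [2,3,0,2,1,3,4,5,6,7], 1), (219, [7,6,5,4,3,0,2,1,3,4,5,6,7], 1),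
      (220, [6,5,4,3,0,2,1,3,4,5,6,7], 1), (221, [5,4,3,0,2,1,3,4,5,6,7], 1), (222, [4,3,0,2,1,3,4,5,6,7], 1), (223, [3,0,2,1,3,4,5,6,7], 1),
      (224, [0,2,1,3,4,5,6,7], 1), (225, [0,2,3,4,5,6,7], 1), (226, [7,6,5,4,3,2,1,3,4,5,6,7], 1), (227, [6,5,4,3,2,1,3,4,5,6,7], 1),
      (228, [5,4,3,2,1,3,4,5,6,7], 1), (229, [4,3,2,1,3,4,5,6,7], 1), (230, [3,2,1,3,4,5,6,7], 1), (231, [2,1,3,4,5,6,7], 1),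
      (232, [1,3,4,5,6,7], 1), (233, [2,3,4,5,6,7], 1), (234, [3,4,5,6,7], 1), (235, [4,5,6,7], 1),
      (236, [5,6,7], 1), (237, [6,7], 1), (238, [7], 1), (239, [], 1)],
    [(121, [7,5,4,3,2,1,3,4,5,6,0,2,3,4,5,1,3,4,2,3,1,0], 2), (123, [6,7,4,3,2,1,3,4,5,6,0,2,3,4,5,1,3,4,2,3,1,0], 2), (124, [7,4,3,2,1,3,4,5,6,0,2,3,4,5,1,3,4,2,3,1,0], 2), (126, [5,6,7,3,2,1,3,4,5,6,0,2,3,4,5,1,3,4,2,3,1,0], 2),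
      (127, [6,7,3,2,1,3,4,5,6,0,2,3,4,5,1,3,4,2,3,1,0], 2), (128, [7,3,2,1,3,4,5,6,0,2,3,4,5,1,3,4,2,3,1,0], 2), (130, [4,5,6,7,2,1,3,4,5,6,0,2,3,4,5,1,3,4,2,3,1,0], 2), (131, [5,6,7,2,1,3,4,5,6,0,2,3,4,5,1,3,4,2,3,1,0], 2),
      (132, [6,7,2,1,3,4,5,6,0,2,3,4,5,1,3,4,2,3,1,0], 2), (133, [7,2,1,3,4,5,6,0,2,3,4,5,1,3,4,2,3,1,0], 2), (135, [3,4,5,6,7,1,3,4,5,6,0,2,3,4,5,1,3,4,2,3,1,0], 2), (136, [4,5,6,7,1,3,4,5,6,0,2,3,4,5,1,3,4,2,3,1,0], 2),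
      (137, [5,6,7,1,3,4,5,6,0,2,3,4,5,1,3,4,2,3,1,0], 2), (138, [6,7,1,3,4,5,6,0,2,3,4,5,1,3,4,2,3,1,0], 2), (139, [7,1,3,4,5,6,0,2,3,4,5,1,3,4,2,3,1,0], 2), (141, [3,4,5,6,7,2,3,4,5,6,0,2,3,4,5,1,3,4,2,3,1,0], 2),
      (142, [4,5,6,7,2,3,4,5,6,0,2,3,4,5,1,3,4,2,3,1,0], 2), (143, [5,6,7,2,3,4,5,6,0,2,3,4,5,1,3,4,2,3,1,0], 2), (144, [6,7,2,3,4,5,6,0,2,3,4,5,1,3,4,2,3,1,0], 2), (145, [7,2,3,4,5,6,0,2,3,4,5,1,3,4,2,3,1,0], 2),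
      (147, [4,5,6,7,3,4,5,6,0,2,3,4,5,1,3,4,2,3,1,0], 2), (148, [5,6,7,3,4,5,6,0,2,3,4,5,1,3,4,2,3,1,0], 2), (149, [6,7,3,4,5,6,0,2,3,4,5,1,3,4,2,3,1,0], 2), (150, [7,3,4,5,6,0,2,3,4,5,1,3,4,2,3,1,0], 2),
      (152, [5,6,7,4,5,6,0,2,3,4,5,1,3,4,2,3,1,0], 2), (153, [6,7,4,5,6,0,2,3,4,5,1,3,4,2,3,1,0], 2), (154, [7,4,5,6,0,2,3,4,5,1,3,4,2,3,1,0], 2), (156, [6,7,5,6,0,2,3,4,5,1,3,4,2,3,1,0], 2),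
      (157, [7,5,6,0,2,3,4,5,1,3,4,2,3,1,0], 2), (159, [7,6,0,2,3,4,5,1,3,4,2,3,1,0], 2), (162, [2,3,4,5,6,7,1,3,4,5,6,2,3,4,5,1,3,4,2,3,1,0], 2), (163, [3,4,5,6,7,1,3,4,5,6,2,3,4,5,1,3,4,2,3,1,0], 2),
      (164, [4,5,6,7,1,3,4,5,6,2,3,4,5,1,3,4,2,3,1,0], 2), (165, [5,6,7,1,3,4,5,6,2,3,4,5,1,3,4,2,3,1,0], 2), (166, [6,7,1,3,4,5,6,2,3,4,5,1,3,4,2,3,1,0], 2), (167, [7,1,3,4,5,6,2,3,4,5,1,3,4,2,3,1,0], 2),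
      (169, [4,5,6,7,3,4,5,6,2,3,4,5,1,3,4,2,3,1,0], 2), (170, [5,6,7,3,4,5,6,2,3,4,5,1,3,4,2,3,1,0], 2), (171, [6,7,3,4,5,6,2,3,4,5,1,3,4,2,3,1,0], 2), (172, [7,3,4,5,6,2,3,4,5,1,3,4,2,3,1,0], 2),
      (174, [5,6,7,4,5,6,2,3,4,5,1,3,4,2,3,1,0], 2), (175, [6,7,4,5,6,2,3,4,5,1,3,4,2,3,1,0], 2), (176, [7,4,5,6,2,3,4,5,1,3,4,2,3,1,0], 2), (178, [6,7,5,6,2,3,4,5,1,3,4,2,3,1,0], 2),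
      (179, [7,5,6,2,3,4,5,1,3,4,2,3,1,0], 2), (181, [7,6,2,3,4,5,1,3,4,2,3,1,0], 2), (184, [5,6,7,4,5,6,3,4,5,1,3,4,2,3,1,0], 2), (185, [6,7,4,5,6,3,4,5,1,3,4,2,3,1,0], 2),
      (186, [7,4,5,6,3,4,5,1,3,4,2,3,1,0], 2), (188, [6,7,5,6,3,4,5,1,3,4,2,3,1,0], 2), (189, [7,5,6,3,4,5,1,3,4,2,3,1,0], 2), (191, [7,6,3,4,5,1,3,4,2,3,1,0], 2),
      (194, [6,7,5,6,4,5,1,3,4,2,3,1,0], 2), (195, [7,5,6,4,5,1,3,4,2,3,1,0], 2), (197, [7,6,4,5,1,3,4,2,3,1,0], 2), (200, [7,6,5,1,3,4,2,3,1,0], 2),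
      (204, [6,7,5,6,4,5,3,4,2,3,1,0], 2), (205, [7,5,6,4,5,3,4,2,3,1,0], 2), (207, [7,6,4,5,3,4,2,3,1,0], 2), (210, [7,6,5,3,4,2,3,1,0], 2),
      (214, [7,6,5,4,2,3,1,0], 2), (219, [7,6,5,4,3,1,0], 2), (226, [7,6,5,4,3,1], 2)],
    [(120, [6,5,4,3,2,1,3,4,5,6,0,2,3,4,1,3,2,0], 3), (121, [7,5,4,3,2,1,3,4,5,6,0,2,3,4,1,3,2,0], 3), (122, [5,4,3,2,1,3,4,5,6,0,2,3,4,1,3,2,0], 3), (123, [6,7,4,3,2,1,3,4,5,6,0,2,3,4,1,3,2,0], 3),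
      (124, [7,4,3,2,1,3,4,5,6,0,2,3,4,1,3,2,0], 3), (125, [4,3,2,1,3,4,5,6,0,2,3,4,1,3,2,0], 3), (126, [5,6,7,3,2,1,3,4,5,6,0,2,3,4,1,3,2,0], 3), (127, [6,7,3,2,1,3,4,5,6,0,2,3,4,1,3,2,0], 3),
      (128, [7,3,2,1,3,4,5,6,0,2,3,4,1,3,2,0], 3), (129, [3,2,1,3,4,5,6,0,2,3,4,1,3,2,0], 3), (130, [4,5,6,7,2,1,3,4,5,6,0,2,3,4,1,3,2,0], 3), (131, [5,6,7,2,1,3,4,5,6,0,2,3,4,1,3,2,0], 3),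
      (132, [6,7,2,1,3,4,5,6,0,2,3,4,1,3,2,0], 3), (133, [7,2,1,3,4,5,6,0,2,3,4,1,3,2,0], 3), (134, [2,1,3,4,5,6,0,2,3,4,1,3,2,0], 3), (147, [4,5,6,7,3,4,5,6,0,2,3,4,1,3,2,0], 3),
      (148, [5,6,7,3,4,5,6,0,2,3,4,1,3,2,0], 3), (149, [6,7,3,4,5,6,0,2,3,4,1,3,2,0], 3), (150, [7,3,4,5,6,0,2,3,4,1,3,2,0], 3), (151, [3,4,5,6,0,2,3,4,1,3,2,0], 3),
      (152, [5,6,7,4,5,6,0,2,3,4,1,3,2,0], 3), (153, [6,7,4,5,6,0,2,3,4,1,3,2,0], 3), (154, [7,4,5,6,0,2,3,4,1,3,2,0], 3), (155, [4,5,6,0,2,3,4,1,3,2,0], 3),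
      (156, [6,7,5,6,0,2,3,4,1,3,2,0], 3), (157, [7,5,6,0,2,3,4,1,3,2,0], 3), (158, [5,6,0,2,3,4,1,3,2,0], 3), (159, [7,6,0,2,3,4,1,3,2,0], 3),
      (160, [6,0,2,3,4,1,3,2,0], 3), (161, [0,2,3,4,1,3,2,0], 3)],
    [(120, [], 5), (130, [4,5,6,2,1,3,4,5,0,2,3,4,1,3,2,0], 4), (137, [5,6,1,3,4,5,0,2,3,4,1,3,2,0], 4), (141, [3,4,5,6,2,3,4,5,0,2,3,4,1,3,2,0], 4),
      (142, [4,5,6,2,3,4,5,0,2,3,4,1,3,2,0], 4), (148, [5,6,3,4,5,0,2,3,4,1,3,2,0], 4), (152, [5,6,4,5,0,2,3,4,1,3,2,0], 4), (166, [6,1,3,4,5,2,3,4,1,3,2,0], 4),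
      (171, [6,3,4,5,2,3,4,1,3,2,0], 4), (175, [6,4,5,2,3,4,1,3,2,0], 4), (188, [6,5,3,4,1,3,2,0], 4), (194, [6,5,4,1,3,2,0], 4),
      (204, [6,5,4,3,2,0], 4)],
    [(126, [5,6,7,3,2,0], 6), (132, [6,7,2,0], 6), (139, [7,0], 6), (168, [], 6)],
    [(130, [4,5,6,2,1,3,4,5,0,2,3,4,1,3,2,0], 6), (137, [5,6,1,3,4,5,0,2,3,4,1,3,2,0], 6), (141, [3,4,5,6,2,3,4,5,0,2,3,4,1,3,2,0], 6), (142, [4,5,6,2,3,4,5,0,2,3,4,1,3,2,0], 6),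
      (148, [5,6,3,4,5,0,2,3,4,1,3,2,0], 6), (152, [5,6,4,5,0,2,3,4,1,3,2,0], 6), (166, [6,1,3,4,5,2,3,4,1,3,2,0], 6), (171, [6,3,4,5,2,3,4,1,3,2,0], 6),
      (175, [6,4,5,2,3,4,1,3,2,0], 6), (188, [6,5,3,4,1,3,2,0], 6), (194, [6,5,4,1,3,2,0], 6), (204, [6,5,4,3,2,0], 6)],
    [(126, [5,6,3,2], 7), (132, [6,2], 7), (139, [], 7)],
    [(126, [5,3], 8), (132, [], 8)],
    [(126, [], 9)],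
    []]
  reds := [
    ([120,218,222,228], [], [(0, 159), (2, 0), (2, 5), (2, 4), (2, 3), (2, 2), (3, 1), (0, 120), (3, 0), (2, 4), (2, 3), (2, 2), (2, 1), (2, 0), (0, 179), (2, 0), (2, 2), (2, 8), (2, 7), (2, 6), (2, 5), (2, 4), (2, 3), (2, 2), (3, 1), (2, 2), (3, 3), (2, 4), (3, 5), (1, 186), (2, 2), (2, 1), (2, 0), (2, 4), (2, 3), (2, 2), (2, 1), (2, 4), (3, 5), (0, 186), (2, 6), (2, 5), (2, 4), (2, 3), (2, 2), (2, 1), (3, 0), (2, 1), (2, 3), (2, 4), (2, 3), (2, 2), (2, 5), (2, 4), (3, 3), (2, 4), (3, 3), (3, 3)]),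
    ([168,213,216,220], [226], [(0, 145), (2, 4), (2, 3), (2, 2), (2, 1), (3, 0), (0, 149), (2, 6), (2, 5), (2, 4), (2, 3), (2, 2), (2, 1), (3, 0), (2, 1), (3, 3), (2, 4), (3, 5), (0, 183), (2, 0), (3, 1), (2, 3), (2, 2), (2, 1), (1, 152), (2, 2), (2, 1), (2, 0), (2, 4), (2, 3), (2, 2), (2, 1), (2, 4), (3, 5), (0, 152), (2, 6), (2, 5), (2, 4), (2, 3), (2, 2), (2, 1), (3, 0), (2, 1), (2, 3), (2, 4), (2, 3), (2, 2), (2, 5), (2, 4), (3, 3), (2, 4), (3, 3), (3, 3)]),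
    ([139,168,220,226], [213,216], [(0, 120), (2, 4), (2, 3), (2, 2), (2, 1), (3, 0), (0, 139), (3, 0), (2, 4), (2, 3), (2, 2), (2, 1), (2, 0), (0, 162), (2, 7), (2, 6), (2, 5), (2, 4), (2, 3), (2, 2), (2, 1), (3, 0), (2, 1), (3, 3), (2, 4), (3, 5), (1, 204), (2, 2), (2, 1), (2, 0), (2, 4), (2, 3), (2, 2), (2, 1), (2, 4), (3, 5), (0, 204), (2, 0), (2, 2), (2, 1), (2, 3), (2, 5), (2, 4), (2, 3), (2, 6), (2, 5), (3, 4), (2, 5), (3, 4), (3, 4), (2, 3), (3, 2)]),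
    ([132,139,168,213], [216,220,226], [(0, 144), (2, 0), (2, 4), (2, 3), (2, 2), (3, 1), (2, 2), (2, 4), (0, 139), (2, 0), (3, 1), (2, 5), (2, 4), (2, 3), (2, 2), (2, 1), (3, 5), (0, 150), (2, 0), (2, 2), (2, 1), (2, 3), (2, 5), (3, 4), (2, 4), (2, 6), (2, 5), (2, 4), (2, 3), (3, 2), (2, 3), (2, 5), (3, 6), (0, 173), (2, 0), (2, 2), (2, 1), (2, 3), (2, 5), (2, 4), (2, 3), (2, 2), (2, 6), (2, 5), (3, 4), (2, 5), (3, 4), (3, 4), (3, 3)]),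
    ([126,132,139,226], [168,213,216,220], [(0, 170), (2, 0), (2, 1), (2, 3), (2, 2), (2, 4), (2, 7), (2, 6), (2, 5), (2, 4), (3, 3), (0, 132), (2, 0), (3, 1), (2, 5), (2, 4), (2, 3), (2, 2), (2, 1), (3, 5), (0, 175), (2, 0), (2, 2), (2, 1), (2, 3), (2, 2), (2, 4), (2, 6), (2, 5), (3, 4), (2, 5), (2, 4), (2, 7), (2, 6), (2, 5), (2, 4), (3, 3), (2, 4), (2, 5), (3, 6), (0, 186), (2, 0), (2, 2), (2, 1), (2, 3), (2, 5), (2, 4), (2, 3), (2, 2), (2, 6), (2, 5), (3, 4), (2, 5), (3, 4), (3, 4), (3, 3)])]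
  fins := [[],[239],[232,233],[228,222,218],[226,220,213,216]]

theorem sl : SL E8.tbl where
  valid := E8.valid
  comm := E8.chkComm
  cvco := by decide +kernel
  sym := by decide +kernel
  pairs := by decide +kernel

theorem grow_ok : chkGrow E8.tbl cert = true := by decide +kernel

theorem fin_ok : chkFin E8.tbl cert = true := by decide +kernel

end CfsgLib.SLInv.E8
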