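import Cfsg.Agent.Lib.KnownB.SLInv.Moves
import Cfsg.Agent.Lib.Chevalley.BorelTits.Optimal
import Mathlib.FieldTheory.Finite.Basic

/-!
Involution classes of simply laced groups in characteristic two from a finite certificate.
-/

set_option autoImplicit false
set_option linter.all false

namespace CfsgLib.SLInv

open CfsgLib.Chevalley CfsgLib.Chevalley.Tbl

/-- A certificate: the sets of orthogonal roots up to the Weyl group, the words completing each of them by one
root, the reductions and the final sets. -/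
structure Cert where
  reps : List (List ℕ)
  grow : List (List (ℕ × List ℕ × ℕ))
  reds : List (List ℕ × List ℕ × List (ℕ × ℕ))
  fins : List (List ℕ)

/-- Whether a root completes a set. -/
def chkGrowAt (T : Tbl) (R : List (List ℕ)) (B : List ℕ) (E : List (ℕ × List ℕ × ℕ)) (g : ℕ) : Bool :=
  Nat.blt g T.half || !(B.all fun b => decide (T.pair g b = 0)) ||
    match E.find? (fun e => Nat.beq e.1 g) with
    | none => false
    | some (_, w, j) => w.all (fun i => decide (i < T.rank)) && decide (j < R.length) &&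
        ((g :: B).map (mvW T w)).isPerm (R.getD j [])

/-- Every extension is covered. -/
def chkGrow (T : Tbl) (c : Cert) : Bool :=
  (decide ([] ∈ c.reps) && decide ([] ∈ c.fins)) &&
    allLt (fun i => allLt (chkGrowAt T c.reps (c.reps.getD i []) (c.grow.getD i [])) T.n) c.reps.length

/-- A reduction. -/
def chkRed (T : Tbl) (B : List ℕ) (r : List ℕ × List ℕ × List (ℕ × ℕ)) : Bool :=
  B.isPerm (r.2.1 ++ r.1) &&
    match runOps T r.2.1 r.1 r.2.2 with
    | none => false
    | some S => decide (S.length < r.1.length) &&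
        ((r.2.1 ++ S).all fun s => decide (s < T.n) && decide (T.half ≤ s)) &&
        decide ((r.2.1 ++ S).Pairwise fun x y => T.pair x y = 0)

/-- Every set is final or reducible. -/
def chkFin (T : Tbl) (c : Cert) : Bool :=
  c.reps.all fun B => c.fins.any (fun M => B.isPerm M) || c.reds.any (chkRed T B)

variable {T : Tbl} (h : SL T) {c : Cert} (hg : chkGrow T c = true) (hf : chkFin T c = true)
  {F : Type*} [Field F] [CharP F 2]

include h hg

theorem reach : ∀ L : List ℕ, Ok T L → ∃ w : List ℕ, (∀ i ∈ w, i < T.rank) ∧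
    ∃ B ∈ c.reps, (L.map (mvW T w)).Perm B := by
  simp only [chkGrow, Bool.and_eq_true, decide_eq_true_eq] at hg
  intro L
  induction L with
  | nil => exact fun _ => ⟨[], fun _ hi => absurd hi List.not_mem_nil, [], hg.1.1, List.Perm.refl _⟩
  | cons g L ih =>
    intro hL
    obtain ⟨hp1, hp2⟩ := List.pairwise_cons.mp hL.2
    obtain ⟨w, hw, B, hB, hp⟩ := ih ⟨fun r hr => hL.1 r (List.mem_cons_of_mem _ hr), hp2⟩
    have hok := ok_cj_mvW (F := ZMod 2) h w hw hL
    have hok' := ok_perm h (hp.cons (mvW T w g)) (by simpa using hok.1)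
    obtain ⟨i, hi, rfl⟩ := List.getElem_of_mem hB
    have h1 := allLt_iff.mp (allLt_iff.mp hg.2 i hi) (mvW T w g) (hok'.1 _ List.mem_cons_self).1
    have hBi : c.reps.getD i [] = c.reps[i] := by
      rw [List.getD_eq_getElem?_getD, List.getElem?_eq_getElem hi]; rfl
    rw [hBi, chkGrowAt] at h1
    have n1 : Nat.blt (mvW T w g) T.half = false := by
      cases q : Nat.blt (mvW T w g) T.half
      · rfl
      · have h2 : mvW T w g < T.half := Nat.le_of_ble_eq_true q
        have h3 := (hok'.1 _ List.mem_cons_self).2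
        omega
    have n2 : (c.reps[i].all fun b => decide (T.pair (mvW T w g) b = 0)) = true :=
      List.all_eq_true.mpr fun b hb => decide_eq_true ((List.pairwise_cons.mp hok'.2).1 b hb)
    rw [n1, n2] at h1
    simp only [Bool.false_or, Bool.not_true] at h1
    cases q : (c.grow.getD i []).find? (fun e => Nat.beq e.1 (mvW T w g)) with
    | none => rw [q] at h1; simp at h1
    | some e =>
      obtain ⟨e1, w2, j⟩ := e
      rw [q] at h1
      simp only [Bool.and_eq_true, decide_eq_true_eq, List.all_eq_true, List.isPerm_iff] at h1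
      refine ⟨w ++ w2, fun k hk => (List.mem_append.mp hk).elim (hw k) (h1.1.1 k), c.reps.getD j [],
        by rw [List.getD_eq_getElem?_getD, List.getElem?_eq_getElem h1.1.2]; exact List.getElem_mem h1.1.2,
        ?_⟩
      have : (g :: L).map (mvW T (w ++ w2)) = ((g :: L).map (mvW T w)).map (mvW T w2) := by
        rw [List.map_map]
        exact List.map_congr_left fun r _ => List.foldl_append ..
      rw [this]
      refine List.Perm.trans (List.Perm.map _ ?_) h1.2
      simpa using hp.cons (mvW T w g)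

include hf

theorem classify : ∀ (n : ℕ) (L : List ℕ), L.length ≤ n → Ok T L →
    ∃ B ∈ c.fins, Cj T F [] (P1 T F L) (P1 T F B) := by
  intro n
  induction n with
  | zero =>
    intro L hL _
    obtain rfl := List.eq_nil_of_length_eq_zero (Nat.le_zero.mp hL)
    simp only [chkGrow, Bool.and_eq_true, decide_eq_true_eq] at hg
    exact ⟨[], hg.1.2, cj_refl _ _⟩
  | succ n ih =>
    intro L hlen hL
    obtain ⟨w, hw, B, hB, hp⟩ := reach h hg L hL
    obtain ⟨hok, hcj⟩ := ok_cj_mvW (F := F) h w hw hL
    rw [P1_perm h hp hok] at hcj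
    have hokB := ok_perm h hp hok
    have hlB : B.length = L.length := by rw [← hp.length_eq, List.length_map]
    simp only [chkFin, List.all_eq_true, Bool.or_eq_true, List.any_eq_true, List.isPerm_iff] at hf
    rcases hf B hB with ⟨M, hM, hpM⟩ | ⟨r, -, hr⟩
    · exact ⟨M, hM, (P1_perm (F := F) h hpM hokB) ▸ hcj⟩
    · obtain ⟨Q, C, os⟩ := r
      simp only [chkRed, Bool.and_eq_true, List.isPerm_iff] at hr
      cases q : runOps T C Q os with
      | none => simp [q] at hr
      | some S =>
        simp only [q, Bool.and_eq_true, decide_eq_true_eq, List.all_eq_true] at hr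
        obtain ⟨hperm, ⟨hlen', hrange⟩, hpw⟩ := hr
        have hokCQ := ok_perm h hperm hokB
        have hC : ∀ x ∈ C, x < T.n := fun x hx => (hokCQ.1 x (List.mem_append_left _ hx)).1
        have hrun := run_sound (F := F) h hC os (fun x hx => (hokCQ.1 x (List.mem_append_right _ hx)).1) q
        have hcj2 : Cj T F [] (P1 T F C * P1 T F Q) (P1 T F C * P1 T F S) :=
          cj_append (by rwa [List.append_nil])
        rw [← P1_append, ← P1_append, ← P1_perm h hperm hokB] at hcj2
        have hl2 := hperm.length_eq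
        obtain ⟨M, hM, hcj3⟩ := ih (C ++ S) (by simp at hl2 ⊢; omega) ⟨hrange, hpw⟩
        exact ⟨M, hM, cj_trans hcj (cj_trans hcj2 hcj3)⟩

omit hg hf in
theorem scale_one [Finite F] : ∀ (P : List (ℕ × F)) (B : List ℕ), OrthList T P → (∀ b ∈ B, b < T.n) →
    (∀ p ∈ P, ∀ b ∈ B, T.pair p.1 b = 0) →
    Cj T F B (T.gprod P) (P1 T F (P.map Prod.fst)) := by
  intro P
  induction P with
  | nil => exact fun B _ _ _ => cj_refl _ _
  | cons p P ih =>
    intro B hP hB hPB
    obtain ⟨r, t⟩ := p
    obtain ⟨hr, -, ht⟩ := hP.1 _ List.mem_cons_self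
    obtain ⟨hp1, hp2⟩ := List.pairwise_cons.mp hP.2
    have hP' : ∀ q ∈ P, q.1 < T.n := fun q hq => (hP.1 q (List.mem_cons_of_mem _ hq)).1
    have h1 := ih (r :: B) ⟨fun q hq => hP.1 q (List.mem_cons_of_mem _ hq), hp2⟩
      (List.forall_mem_cons.mpr ⟨hr, hB⟩) fun q hq => List.forall_mem_cons.mpr
        ⟨by rw [pair_symm h (hP' q hq) hr]; exact hp1 q hq, hPB q (List.mem_cons_of_mem _ hq)⟩
    refine cj_trans (cj_cons (t := t) h1) ?_
    obtain ⟨u, hu⟩ := FiniteField.isSquare_of_char_two (ringChar.eq F 2) t⁻¹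
    have hu0 : u ≠ 0 := fun q => ht (inv_eq_zero.mp (by rw [hu, q, mul_zero]))
    obtain ⟨c, hc⟩ : ∃ c : Fˣ, (c : F) = u := ⟨Units.mk0 u hu0, rfl⟩
    refine ⟨T.dU (T.hCh r c), ?_, fun b hb s => ?_, ?_⟩
    · rw [← hU_eq h.valid hr]
      exact mul_mem (mul_mem (mul_mem (xU_mem_rootGen hr trivial _) (xU_mem_rootGen (neg_lt' hr) trivial _))
        (xU_mem_rootGen hr trivial _)) (mul_mem (mul_mem (xU_mem_rootGen hr trivial _)
        (xU_mem_rootGen (neg_lt' hr) trivial _)) (xU_mem_rootGen hr trivial _))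
    · show _ * _ = _ * _
      rw [dU_hCh_xU h.valid hr c (hB b hb), hPB (r, t) List.mem_cons_self b hb, zpow_zero, Units.val_one,
        one_mul]
    · have hcom : Commute (T.dU (T.hCh r c)) (P1 T F (P.map Prod.fst)) := by
        refine Commute.list_prod_right _ _ fun x hx => ?_
        obtain ⟨s, hs, rfl⟩ := List.mem_map.mp hx
        obtain ⟨q, hq, rfl⟩ := List.mem_map.mp hs
        show _ * _ = _ * _
        rw [dU_hCh_xU h.valid hr c (hP' q hq), hp1 q hq, zpow_zero, Units.val_one, one_mul]
      have hsc : ((c ^ T.pair r r : Fˣ) : F) * t = 1 := by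
        rw [pair_self' h hr, zpow_two, Units.val_mul, hc, ← hu, inv_mul_cancel₀ ht]
      rw [List.map_cons, P1_cons, ← mul_assoc, dU_hCh_xU h.valid hr c hr, hsc, mul_assoc (T.xU F r 1),
        hcom.eq, ← mul_assoc, mul_inv_cancel_right]

omit hg hf [CharP F 2] in
theorem group_gen : T.datum.group F = T.rootGen F (fun _ => True) := by
  refine le_antisymm ?_ (rootGen_le fun r hr _ t => xU_mem_group h.valid hr t)
  rw [group_eq h.valid, Subgroup.closure_le]
  rintro x ⟨r, hr, t, rfl⟩
  exact xU_mem_rootGen (P := fun _ => True) hr trivial t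

/-- Every involution is conjugate to one of the final products. -/
theorem involution_class [Fintype F] {g : GL T.I F} (hgG : g ∈ T.datum.group F) (hgg : g * g = 1) :
    ∃ B ∈ c.fins, ∃ k ∈ T.datum.group F, k * g * k⁻¹ = P1 T F B := by
  have : Fact (Nat.Prime 2) := ⟨Nat.prime_two⟩
  have hord : IsPGroup 2 ↥(Subgroup.zpowers g) := fun x => by
    obtain ⟨k, hk⟩ := Subgroup.mem_zpowers_iff.mp x.2
    refine ⟨1, Subtype.ext ?_⟩
    rw [pow_one, pow_two, Subgroup.coe_mul, ← hk, Subgroup.coe_one,
      ← (Commute.refl g).mul_zpow, hgg, one_zpow]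
  obtain ⟨a, ha, hx⟩ := BorelTits.exists_conj_into_pos h.valid h.comm 2 (Subgroup.zpowers_le.mpr hgG) hord
  have hx' : a⁻¹ * g * a ∈ T.rootGen F (Perp T []) := by
    have := hx g (Subgroup.mem_zpowers g)
    rw [posUnipotent_rootGen h.valid] at this
    exact rootGen_mono (fun r hr pr => ⟨hr, pr, fun b hb => absurd hb List.not_mem_nil⟩) this
  obtain ⟨P, hP, b, hb, hb'⟩ := orth_form h hx' (by
    calc a⁻¹ * g * a * (a⁻¹ * g * a) = a⁻¹ * (g * g) * a := by group
      _ = 1 := by rw [hgg, mul_one, inv_mul_cancel])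
  obtain ⟨d, hd, -, hd'⟩ := scale_one h P [] hP (fun x hx => absurd hx List.not_mem_nil)
    (fun p _ x hx => absurd hx List.not_mem_nil)
  obtain ⟨B, hB, e, he, -, he'⟩ := classify (F := F) h hg hf _ (P.map Prod.fst) le_rfl
    ⟨fun r hr => by
      obtain ⟨p, hp, rfl⟩ := List.mem_map.mp hr
      exact ⟨(hP.1 p hp).1, (hP.1 p hp).2.1⟩, List.pairwise_map.mpr hP.2⟩
  refine ⟨B, hB, e * d * b * a⁻¹, ?_, ?_⟩
  · rw [group_gen h] at ha ⊢
    exact mul_mem (mul_mem (mul_mem he hd) hb) (inv_mem ha)
  · rw [← he', ← hd', ← hb']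
    group

end CfsgLib.SLInv
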