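import Cfsg.Agent.Lib.KnownB.SLInv.Moves
import Mathlib.LinearAlgebra.Matrix.Rank
import Mathlib.Data.ZMod.Basic

/-!
Ranks of products of root elements minus one in characteristic two, certified by bit matrices.
-/

set_option autoImplicit false
set_option linter.all false

namespace CfsgLib.SLInv

open CfsgLib.Chevalley CfsgLib.Chevalley.Tbl

/-- The number of coordinates. -/
def dimI (T : Tbl) : ℕ := T.rank + T.n

/-- The position of a coordinate. -/
def pos (T : Tbl) (j : T.I) : ℕ := (finSumFinEquiv (m := T.rank) (n := T.n) j : Fin (T.rank + T.n))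

/-- The vector of a bit string. -/
def dec (T : Tbl) (v : ℕ) : T.I → ZMod 2 := fun j => if v.testBit (pos T j) then 1 else 0

/-- The matrix with the given columns. -/
def mat (T : Tbl) (C : List ℕ) : Matrix T.I T.I (ZMod 2) := Matrix.of fun i j => dec T (C.getD (pos T j) 0) i

/-- The image of a bit string under a matrix given by columns. -/
def apL : List ℕ → ℕ → ℕ
  | [], _ => 0
  | c :: C, v => (bif Nat.beq (v % 2) 1 then c else 0) ^^^ apL C (v / 2)

/-- The image of a bit string, by blocks of 62 columns. -/
def apB : ℕ → List ℕ → ℕ → ℕ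
  | 0, C, v => apL C v
  | k + 1, C, v =>
    (bif Nat.beq (v % 4611686018427387904) 0 then 0 else apL (C.take 62) (v % 4611686018427387904)) ^^^
      apB k (C.drop 62) (v / 4611686018427387904)

/-- The product of two matrices given by columns. -/
def mulL (A B : List ℕ) : List ℕ := B.map (apB 4 A)

/-- The parity of an integer as a bit at a position. -/
def bitIf (z : ℤ) (k : ℕ) : ℕ := bif decide (z % 2 = 0) then 0 else 2 ^ k

/-- The bit string of a multiple of a root vector. -/
def optBit (T : Tbl) : Option (ℕ × ℤ) → ℕ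
  | none => 0
  | some (u, m) => bif Nat.blt u T.n then bitIf m (T.rank + u) else 0

/-- The bit string of a coroot. -/
def coMask (T : Tbl) (r : ℕ) : ℕ → ℕ
  | 0 => 0
  | k + 1 => coMask T r k ^^^ bitIf (T.cv r k) k

/-- The column of a root element. -/
def colX (T : Tbl) (r p : ℕ) : ℕ :=
  2 ^ p ^^^
    (bif Nat.blt p T.rank then bitIf (T.ca p r) (T.rank + r)
    else bif Nat.beq (p - T.rank) r then 0
    else bif Nat.beq (p - T.rank) (T.neg r) then coMask T r T.rank ^^^ 2 ^ (T.rank + r)
    else optBit T (T.chain r (p - T.rank) 1) ^^^ optBit T (T.chain r (p - T.rank) 2) ^^^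
      optBit T (T.chain r (p - T.rank) 3))

/-- The columns of a product of root elements. -/
def colsP (T : Tbl) : List ℕ → List ℕ
  | [] => (List.range (dimI T)).map (2 ^ ·)
  | r :: L => mulL ((List.range (dimI T)).map (colX T r)) (colsP T L)

/-- The columns of a product of root elements plus one. -/
def colsM (T : Tbl) (L : List ℕ) : List ℕ :=
  List.zipWith (· ^^^ ·) (colsP T L) ((List.range (dimI T)).map (2 ^ ·))

/-- The projection on the first coordinates. -/
def colsPr (T : Tbl) (k : ℕ) : List ℕ :=
  (List.range (dimI T)).map fun p => bif Nat.blt p k then 2 ^ p else 0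

/-- The check of the shape of a rank certificate. -/
def chkShape (T : Tbl) (L : List ℕ) (k : ℕ) (A B C D : List ℕ) : Bool :=
  L.all (fun r => decide (r < T.n)) && decide (k ≤ dimI T) &&
    decide (A.length = dimI T) && decide (B.length = dimI T) &&
    decide (C.length = dimI T) && decide (D.length = dimI T)

variable {T : Tbl}

theorem pos_lt (j : T.I) : pos T j < dimI T := Fin.isLt _

theorem pos_inj : Function.Injective (pos T) := fun _ _ e =>
  finSumFinEquiv.injective (Fin.ext e)

theorem pos_inl (i : Fin T.rank) : pos T (Sum.inl i) = i := by simp [pos]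

theorem pos_inr (s : Fin T.n) : pos T (Sum.inr s) = T.rank + s := by simp [pos]

theorem dec_zero : dec T 0 = 0 := funext fun j => by simp [dec]

theorem dec_xor (u v : ℕ) : dec T (u ^^^ v) = dec T u + dec T v := funext fun j => by
  simp only [dec, Nat.testBit_xor, Pi.add_apply]
  cases u.testBit (pos T j) <;> cases v.testBit (pos T j) <;> decide

theorem dec_two_pow (p : ℕ) (i : T.I) : dec T (2 ^ p) i = if p = pos T i then 1 else 0 := by
  simp [dec, Nat.testBit_two_pow]

theorem dec_apL (C : List ℕ) (v : ℕ) (i : T.I) :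
    dec T (apL C v) i =
      ∑ k ∈ Finset.range C.length, (if v.testBit k then (1 : ZMod 2) else 0) * dec T (C.getD k 0) i := by
  induction C generalizing v with
  | nil => simp [apL, dec_zero]
  | cons c C ih =>
    rw [List.length_cons, Finset.sum_range_succ', apL, dec_xor, Pi.add_apply, ih, add_comm]
    refine congrArg₂ (· + ·) ?_ ?_
    · refine Finset.sum_congr rfl fun k _ => ?_
      rw [Nat.testBit_succ, List.getD_cons_succ]
    · rw [List.getD_cons_zero, Nat.testBit_zero]
      rcases Nat.mod_two_eq_zero_or_one v with e | e <;> simp [e, dec_zero, show Nat.beq 0 1 = false from rfl, show Nat.beq 1 1 = true from rfl]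

omit T in
theorem apL_zero : ∀ C : List ℕ, apL C 0 = 0
  | [] => rfl
  | _ :: C => by simp [apL, apL_zero C, show Nat.beq 0 1 = false from rfl]

omit T in
theorem apL_split : ∀ (m : ℕ) (C : List ℕ) (v : ℕ),
    apL C v = apL (C.take m) (v % 2 ^ m) ^^^ apL (C.drop m) (v / 2 ^ m)
  | 0, C, v => by simp [apL]
  | m + 1, [], v => by simp [apL]
  | m + 1, c :: C, v => by
    have e1 : v % 2 ^ (m + 1) % 2 = v % 2 := Nat.mod_mod_of_dvd v (dvd_pow_self 2 (by omega))
    have e2 : v % 2 ^ (m + 1) / 2 = v / 2 % 2 ^ m := by
      rw [pow_succ', Nat.mod_mul_right_div_self]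
    have e3 : v / 2 ^ (m + 1) = v / 2 / 2 ^ m := by rw [pow_succ', Nat.div_div_eq_div_mul]
    rw [List.take_succ_cons, List.drop_succ_cons, apL, apL, e1, e2, e3, apL_split m C (v / 2), Nat.xor_assoc]

omit T in
theorem apB_eq : ∀ (k : ℕ) (C : List ℕ) (v : ℕ), apB k C v = apL C v
  | 0, _, _ => rfl
  | k + 1, C, v => by
    rw [apB, apB_eq k, apL_split 62 C v, show (2 : ℕ) ^ 62 = 4611686018427387904 by norm_num]
    congr 1
    cases e : Nat.beq (v % 4611686018427387904) 0
    · rfl
    · rw [Nat.eq_of_beq_eq_true e, cond_true, apL_zero]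

theorem mat_mul {A B : List ℕ} (hA : A.length = dimI T) (hB : B.length = dimI T) :
    mat T A * mat T B = mat T (mulL A B) := by
  ext i j
  have hj : pos T j < B.length := by rw [hB]; exact pos_lt j
  rw [Matrix.mul_apply]
  have e : (mulL A B).getD (pos T j) 0 = apL A (B.getD (pos T j) 0) := by
    simp [mulL, List.getD_eq_getElem?_getD, hj, apB_eq]
  show _ = dec T ((mulL A B).getD (pos T j) 0) i
  rw [e, dec_apL, hA,
    ← Fin.sum_univ_eq_sum_range (fun k => (if (B.getD (pos T j) 0).testBit k then (1 : ZMod 2) else 0) *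
      dec T (A.getD k 0) i),
    show (∑ k : Fin (dimI T), (if (B.getD (pos T j) 0).testBit k then (1 : ZMod 2) else 0) *
      dec T (A.getD k 0) i) = ∑ l : T.I, (if (B.getD (pos T j) 0).testBit (pos T l) then (1 : ZMod 2) else 0) *
      dec T (A.getD (pos T l) 0) i from ((finSumFinEquiv (m := T.rank) (n := T.n)).sum_comp
        (fun k : Fin (dimI T) => (if (B.getD (pos T j) 0).testBit k then (1 : ZMod 2) else 0) *
          dec T (A.getD k 0) i)).symm]
  exact Finset.sum_congr rfl fun l _ => mul_comm _ _

theorem mulL_length (A B : List ℕ) : (mulL A B).length = B.length := List.length_map ..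

theorem getD_range_map (f : ℕ → ℕ) (j : T.I) :
    ((List.range (dimI T)).map f).getD (pos T j) 0 = f (pos T j) := by
  simp [List.getD_eq_getElem?_getD, pos_lt j]

theorem mat_range (f : ℕ → ℕ) (i j : T.I) :
    mat T ((List.range (dimI T)).map f) i j = dec T (f (pos T j)) i := by
  show dec T _ i = _
  rw [getD_range_map]

theorem mat_one : mat T ((List.range (dimI T)).map (2 ^ ·)) = 1 := by
  ext i j
  rw [mat_range, dec_two_pow, Matrix.one_apply]
  simp [pos_inj.eq_iff, eq_comm]

theorem mat_pr (k : ℕ) :
    mat T (colsPr T k) = Matrix.diagonal fun i => if pos T i < k then 1 else 0 := by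
  ext i j
  rw [colsPr, mat_range, Matrix.diagonal_apply]
  by_cases e : pos T j < k
  · have : Nat.blt (pos T j) k = true := Nat.ble_eq_true_of_le e
    rw [this, cond_true, dec_two_pow]
    by_cases hij : i = j
    · subst hij; simp [e]
    · simp [hij, pos_inj.eq_iff, Ne.symm hij]
  · have : Nat.blt (pos T j) k = false := by
      cases q : Nat.blt (pos T j) k
      · rfl
      · exact absurd (Nat.le_of_ble_eq_true q) e
    rw [this, cond_false, dec_zero]
    by_cases hij : i = j
    · subst hij; simp [e]
    · simp [hij]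

theorem dec_bitIf (z : ℤ) (k : ℕ) (i : T.I) :
    dec T (bitIf z k) i = if k = pos T i then (z : ZMod 2) else 0 := by
  unfold bitIf
  by_cases e : z % 2 = 0
  · have hz : (z : ZMod 2) = 0 := (ZMod.intCast_zmod_eq_zero_iff_dvd z 2).mpr (by omega)
    simp [e, hz, dec_zero]
  · have hz : (z : ZMod 2) = 1 := by
      rw [show z = 2 * (z / 2) + 1 by omega]
      push_cast
      rw [show (2 : ZMod 2) = 0 from rfl]
      ring
    simp [e, hz, dec_two_pow]

theorem dec_root (u : ℕ) (hu : u < T.n) (z : ℤ) (i : T.I) :
    dec T (bitIf z (T.rank + u)) i = (((z • T.rootVec u) i : ℤ) : ZMod 2) := by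
  rw [dec_bitIf]
  rcases i with i | s
  · rw [pos_inl, if_neg (by omega)]; simp [rootVec]
  · rw [pos_inr]
    by_cases e : s.val = u
    · simp [rootVec, e]
    · simp [rootVec, e, Ne.symm e]

theorem dec_optBit (o : Option (ℕ × ℤ)) (i : T.I) :
    dec T (optBit T o) i = ((T.optVec o i : ℤ) : ZMod 2) := by
  rcases o with _ | ⟨u, m⟩
  · simp [optBit, optVec, dec_zero]
  · by_cases e : u < T.n
    · have : Nat.blt u T.n = true := Nat.ble_eq_true_of_le e
      rw [optBit, this, cond_true, dec_root u e]
      rfl
    · have : Nat.blt u T.n = false := by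
        cases q : Nat.blt u T.n
        · rfl
        · exact absurd (Nat.le_of_ble_eq_true q) e
      rw [optBit, this, cond_false, dec_zero]
      rcases i with i | s
      · simp [optVec, rootVec]
      · have : s.val ≠ u := fun q => e (q ▸ s.2)
        simp [optVec, rootVec, this]

theorem dec_coMask (r : ℕ) : ∀ k ≤ T.rank, ∀ i : T.I,
    dec T (coMask T r k) i = if pos T i < k then (T.cv r (pos T i) : ZMod 2) else 0 := by
  intro k
  induction k with
  | zero => intro _ i; simp [coMask, dec_zero]
  | succ k ih =>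
    intro hk i
    rw [coMask, dec_xor, Pi.add_apply, ih (by omega), dec_bitIf]
    by_cases e : k = pos T i
    · subst e; simp
    · by_cases e2 : pos T i < k
      · simp [e, e2, show pos T i < k + 1 by omega]
      · simp [e, e2, show ¬ pos T i < k + 1 by omega]

theorem colX_eq {r : ℕ} (hr : r < T.n) (i j : T.I) :
    mat T ((List.range (dimI T)).map (colX T r)) i j =
      (X (ZMod 2) r 1 : Matrix T.I T.I (ZMod 2)) i j := by
  rw [mat_range, colX, dec_xor, Pi.add_apply, dec_two_pow, X_apply]
  refine congrArg₂ (· + ·) (by simp [pos_inj.eq_iff, eq_comm]) ?_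
  simp only [one_pow, one_mul]
  rw [show Finset.Ico 1 4 = {1, 2, 3} from rfl, Finset.sum_insert (by simp), Finset.sum_insert (by simp),
    Finset.sum_singleton]
  rcases j with j | s
  · rw [pos_inl]
    have : Nat.blt (j : ℕ) T.rank = true := Nat.ble_eq_true_of_le j.isLt
    rw [this, cond_true, dec_root r hr]
    simp [colA]
  · rw [pos_inr]
    have : Nat.blt (T.rank + s) T.rank = false := by
      cases q : Nat.blt (T.rank + s) T.rank
      · rfl
      · exact absurd (Nat.le_of_ble_eq_true q) (by omega)
    rw [this, cond_false, Nat.add_sub_cancel_left]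
    by_cases e : s.val = r
    · rw [show Nat.beq s.val r = true by rw [e]; exact Nat.beq_refl r, cond_true, dec_zero]
      simp [colA, e]
    · have b1 : Nat.beq s.val r = false := by
        cases q : Nat.beq s.val r
        · rfl
        · exact absurd (Nat.eq_of_beq_eq_true q) e
      rw [b1, cond_false]
      by_cases e' : s.val = T.neg r
      · rw [show Nat.beq s.val (T.neg r) = true by rw [e']; exact Nat.beq_refl _, cond_true, dec_xor,
          Pi.add_apply, dec_coMask r T.rank le_rfl, dec_two_pow]
        have hrn : T.neg r ≠ r := fun q => e (e'.trans q)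
        rcases i with i | v
        · simp [colA, e, e', hrn, coVec, rootVec, pos_inl, show T.rank + r ≠ (i : ℕ) by omega]
        · simp only [colA, e, e', hrn, if_false, if_true, pos_inr]
          by_cases ev : v.val = r
          · simp [hrn, coVec, rootVec, ev, CharTwo.neg_eq]
          · simp [hrn, coVec, rootVec, ev, Ne.symm ev]
      · have b2 : Nat.beq s.val (T.neg r) = false := by
          cases q : Nat.beq s.val (T.neg r)
          · rfl
          · exact absurd (Nat.eq_of_beq_eq_true q) e'
        rw [b2, cond_false, dec_xor, dec_xor, Pi.add_apply, Pi.add_apply, dec_optBit, dec_optBit,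
          dec_optBit, add_assoc]
        simp [colA, e, e']

theorem colsP_length (L : List ℕ) : (colsP T L).length = dimI T := by
  induction L with
  | nil => simp [colsP]
  | cons r L ih => rw [colsP, mulL_length, ih]

variable (h : SL T) (F : Type*) [Field F] [CharP F 2]
include h

theorem P1_matrix : ∀ L : List ℕ, (∀ r ∈ L, r < T.n) →
    ((P1 T F L : GL T.I F) : Matrix T.I T.I F) = (mat T (colsP T L)).map (ZMod.castHom (dvd_refl 2) F) := by
  intro L
  induction L with
  | nil =>
    intro _
    rw [colsP, mat_one, P1_nil, Units.val_one, Matrix.map_one]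
    · exact map_zero _
    · exact map_one _
  | cons r L ih =>
    intro hL
    have hr := hL r List.mem_cons_self
    rw [colsP, ← mat_mul (by simp) (colsP_length L), Matrix.map_mul, P1_cons, Units.val_mul,
      ih fun s hs => hL s (List.mem_cons_of_mem _ hs)]
    congr 1
    ext i j
    rw [Matrix.map_apply, colX_eq hr, xU_val h.valid hr, X_apply, X_apply, map_add, map_sum]
    refine congrArg₂ (· + ·) ?_ (Finset.sum_congr rfl fun k _ => ?_)
    · split <;> simp
    · rw [map_mul, map_pow, map_one, map_intCast]

theorem rank_cert {L : List ℕ} {k : ℕ} {A B C D : List ℕ} (hc : chkShape T L k A B C D = true)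
    (hAB : mulL (mulL A (colsPr T k)) B = colsM T L) (hCD : mulL (mulL C (colsM T L)) D = colsPr T k) :
    (((P1 T F L : GL T.I F) : Matrix T.I T.I F) - 1).rank = k := by
  simp only [chkShape, Bool.and_eq_true, decide_eq_true_eq, List.all_eq_true] at hc
  obtain ⟨⟨⟨⟨⟨hL, hk⟩, hA⟩, hB⟩, hC⟩, hD⟩ := hc
  obtain ⟨f, hf⟩ : ∃ f : ZMod 2 →+* F, f = ZMod.castHom (dvd_refl 2) F := ⟨_, rfl⟩
  have hlen : (colsM T L).length = dimI T := by simp [colsM, colsP_length]
  have hlenPr : (colsPr T k).length = dimI T := by simp [colsPr]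
  have hM : ((P1 T F L : GL T.I F) : Matrix T.I T.I F) - 1 = (mat T (colsM T L)).map f := by
    rw [P1_matrix h F L hL, hf]
    ext i j
    have e : (colsM T L).getD (pos T j) 0 = (colsP T L).getD (pos T j) 0 ^^^ 2 ^ pos T j := by
      have h1 : pos T j < (colsP T L).length := by rw [colsP_length]; exact pos_lt j
      simp [colsM, List.getD_eq_getElem?_getD, h1, pos_lt j]
    show _ = ZMod.castHom (dvd_refl 2) F (dec T ((colsM T L).getD (pos T j) 0) i)
    rw [e, dec_xor, Pi.add_apply, map_add, dec_two_pow, Matrix.sub_apply, Matrix.map_apply,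
      Matrix.one_apply, sub_eq_add_neg, CharTwo.neg_eq]
    refine congrArg₂ (· + ·) rfl ?_
    by_cases q : i = j <;> simp [q, pos_inj.eq_iff, Ne.symm]
  have e1 : ((P1 T F L : GL T.I F) : Matrix T.I T.I F) - 1 =
      (mat T A).map f * (mat T (colsPr T k)).map f * (mat T B).map f := by
    rw [hM, ← hAB, ← mat_mul (by rw [mulL_length, hlenPr]) hB, ← mat_mul hA hlenPr, Matrix.map_mul,
      Matrix.map_mul]
  have e2 : (mat T (colsPr T k)).map f =
      (mat T C).map f * (((P1 T F L : GL T.I F) : Matrix T.I T.I F) - 1) * (mat T D).map f := by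
    rw [hM, ← hCD, ← mat_mul (by rw [mulL_length, hlen]) hD, ← mat_mul hC hlen, Matrix.map_mul,
      Matrix.map_mul]
  have hPr : ((mat T (colsPr T k)).map f).rank = k := by
    classical
    rw [mat_pr, Matrix.diagonal_map (map_zero f), Matrix.rank_diagonal]
    have e : Fintype.card {i : T.I // pos T i < k} = k := by
      refine (Fintype.card_congr ⟨fun i => (⟨pos T i.1, i.2⟩ : Fin k), fun q =>
        ⟨finSumFinEquiv.symm ⟨q.1, lt_of_lt_of_le q.2 hk⟩, by simp [pos]⟩, fun i => ?_, fun q => ?_⟩).trans
        (Fintype.card_fin k)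
      · exact Subtype.ext (pos_inj (by simp [pos]))
      · simp [pos]
    refine Eq.trans ?_ e
    refine Fintype.card_congr (Equiv.subtypeEquivRight fun i => ?_)
    split <;> simp [*]
  refine le_antisymm ?_ ?_
  · rw [← hPr, e1]
    exact (Matrix.rank_mul_le_left _ _).trans (Matrix.rank_mul_le_right _ _)
  · rw [← hPr, e2]
    exact (Matrix.rank_mul_le_left _ _).trans (Matrix.rank_mul_le_right _ _)

theorem rank_conj {g x y : GL T.I F} (e : g * x * g⁻¹ = y) :
    ((y : Matrix T.I T.I F) - 1).rank = ((x : Matrix T.I T.I F) - 1).rank := by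
  subst e
  have e1 : ((g * x * g⁻¹ : GL T.I F) : Matrix T.I T.I F) - 1 =
      (g : Matrix T.I T.I F) * ((x : Matrix T.I T.I F) - 1) * ((g⁻¹ : GL T.I F) : Matrix T.I T.I F) := by
    rw [Units.val_mul, Units.val_mul, mul_sub, sub_mul, mul_one, Units.mul_inv]
  rw [e1, Matrix.rank_mul_eq_left_of_isUnit_det _ _ ((Matrix.isUnit_iff_isUnit_det _).mp (g⁻¹).isUnit),
    Matrix.rank_mul_eq_right_of_isUnit_det _ _ ((Matrix.isUnit_iff_isUnit_det _).mp g.isUnit)]

end CfsgLib.SLInv
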