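import Cfsg.Agent.Lib.KnownB.SLInv.Classify
import Cfsg.Agent.Lib.KnownB.SLInv.Rank
import Cfsg.Agent.Lib.Chevalley.Datum
import Mathlib.Data.Set.Card

/-!
The classes of involutions from a certificate and the ranks.
-/

set_option autoImplicit false
set_option linter.all false

namespace CfsgLib.SLInv

open CfsgLib.Chevalley CfsgLib.Chevalley.Tbl

variable {T : Tbl} (h : SL T) {F : Type*} [Field F] [CharP F 2]
include h

theorem P1_mem {L : List ℕ} (hL : ∀ r ∈ L, r < T.n) : P1 T F L ∈ T.datum.group F :=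
  list_prod_mem fun x hx => by
    obtain ⟨r, hr, rfl⟩ := List.mem_map.mp hx
    exact xU_mem_group h.valid (hL r hr) 1

theorem P1_sq : ∀ {L : List ℕ}, Ok T L → P1 T F L * P1 T F L = 1 := by
  intro L
  induction L with
  | nil => intro _; simp [P1_nil]
  | cons r L ih =>
    intro hL
    obtain ⟨h1, h2⟩ := List.pairwise_cons.mp hL.2
    have hr := (hL.1 r List.mem_cons_self).1
    have hc : Commute (T.xU F r 1) (P1 T F L) := Commute.list_prod_right _ _ fun x hx => by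
      obtain ⟨s, hs, rfl⟩ := List.mem_map.mp hx
      exact commute h hr (hL.1 s (List.mem_cons_of_mem _ hs)).1 (le_of_eq (h1 s hs).symm) 1 1
    rw [P1_cons, hc.symm.mul_mul_mul_comm, xx_self h hr,
      ih ⟨fun s hs => hL.1 s (List.mem_cons_of_mem _ hs), h2⟩, one_mul]

theorem P1_x {L : List ℕ} (hL : ∀ r ∈ L, r < T.n) :
    ((P1 T F L : GL T.I F) : Matrix T.I T.I F) = (L.map fun r => T.datum.x F r 1).prod := by
  induction L with
  | nil => rfl
  | cons r L ih =>
    rw [P1_cons, Units.val_mul, ih fun s hs => hL s (List.mem_cons_of_mem _ hs), List.map_cons,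
      List.prod_cons, x_eq_val h.valid (hL r List.mem_cons_self)]

/-- The classes of involutions. -/
theorem classes {c : Cert} (hg : chkGrow T c = true) (hf : chkFin T c = true) [Fintype F]
    {R : List (List ℕ)} (hR : c.fins = [] :: R)
    (hok : ∀ L ∈ R, Ok T L) {k : List ℕ → ℕ}
    (hk : ∀ L ∈ R, (((P1 T F L : GL T.I F) : Matrix T.I T.I F) - 1).rank = k L)
    (hpos : ∀ L ∈ R, 0 < k L) (hinj : ∀ L ∈ R, ∀ M ∈ R, k L = k M → L = M) :
    (∀ L ∈ R, P1 T F L ∈ T.datum.group F ∧ orderOf (P1 T F L) = 2) ∧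
    (∀ g ∈ T.datum.group F, orderOf g = 2 → ∃ L ∈ R, ∃ a ∈ T.datum.group F, a * g * a⁻¹ = P1 T F L) ∧
    (∀ L ∈ R, ∀ M ∈ R, (∃ a ∈ T.datum.group F, a * P1 T F L * a⁻¹ = P1 T F M) → L = M) := by
  have : Fact (Nat.Prime 2) := ⟨Nat.prime_two⟩
  refine ⟨fun L hL => ⟨P1_mem h fun r hr => ((hok L hL).1 r hr).1, ?_⟩, fun g hg1 hg2 => ?_, ?_⟩
  · refine orderOf_eq_prime (by rw [pow_two]; exact P1_sq h (hok L hL)) fun e => ?_
    have h1 := hk L hL
    rw [e, Units.val_one, sub_self, Matrix.rank_zero] at h1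
    have := hpos L hL
    omega
  · obtain ⟨B, hB, a, ha, e⟩ := involution_class h hg hf hg1
      (by rw [← pow_two, ← hg2, pow_orderOf_eq_one])
    rw [hR] at hB
    rcases List.mem_cons.mp hB with rfl | hB
    · rw [P1_nil, conj_eq_one_iff] at e
      rw [e, orderOf_one] at hg2
      exact absurd hg2 (by norm_num)
    · exact ⟨B, hB, a, ha, e⟩
  · rintro L hL M hM ⟨a, -, e⟩
    exact hinj L hL M hM (by rw [← hk L hL, ← hk M hM, rank_conj h F e])

/-- The number of classes of involutions. -/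
theorem class_count {c : Cert} (hg : chkGrow T c = true) (hf : chkFin T c = true) [Fintype F]
    {R : List (List ℕ)} (hR : c.fins = [] :: R) (hnd : R.Nodup)
    (hok : ∀ L ∈ R, Ok T L) {k : List ℕ → ℕ}
    (hk : ∀ L ∈ R, (((P1 T F L : GL T.I F) : Matrix T.I T.I F) - 1).rank = k L)
    (hpos : ∀ L ∈ R, 0 < k L) (hinj : ∀ L ∈ R, ∀ M ∈ R, k L = k M → L = M) :
    (ConjClasses.mk '' {g : ↥(T.datum.group F) | orderOf g = 2}).ncard = R.length := by
  obtain ⟨h1, h2, h3⟩ := classes (F := F) h hg hf hR hok hk hpos hinj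
  let f : {L // L ∈ R} → ConjClasses ↥(T.datum.group F) := fun L => ConjClasses.mk ⟨_, (h1 L.1 L.2).1⟩
  have hinjf : Function.Injective f := by
    rintro ⟨L, hL⟩ ⟨M, hM⟩ e
    obtain ⟨a, ha⟩ := isConj_iff.mp (ConjClasses.mk_eq_mk_iff_isConj.mp e)
    exact Subtype.ext (h3 L hL M hM ⟨a.1, a.2, congrArg Subtype.val ha⟩)
  have himg : ConjClasses.mk '' {g : ↥(T.datum.group F) | orderOf g = 2} = Set.range f := by
    ext x
    constructor
    · rintro ⟨g, hg2, rfl⟩
      obtain ⟨L, hL, a, ha, e⟩ := h2 g g.2 (by rw [Subgroup.orderOf_coe]; exact hg2)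
      exact ⟨⟨L, hL⟩, ConjClasses.mk_eq_mk_iff_isConj.mpr (isConj_iff.mpr ⟨⟨a, ha⟩, Subtype.ext e⟩).symm⟩
    · rintro ⟨⟨L, hL⟩, rfl⟩
      exact ⟨_, by rw [Set.mem_setOf_eq, ← Subgroup.orderOf_coe]; exact (h1 L hL).2, rfl⟩
  rw [himg, Set.ncard_range_of_injective hinjf,
    Nat.card_eq_of_equiv_fin (List.Nodup.getEquiv R hnd).symm]

end CfsgLib.SLInv
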