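import Cfsg.Agent.Lib.KnownB.SLInv.Orth

/-!
Moves between products of root elements in simply laced tables in characteristic two.
-/

set_option autoImplicit false
set_option linter.all false

namespace CfsgLib.SLInv

open CfsgLib.Chevalley CfsgLib.Chevalley.Tbl

/-- The product of the root elements of a list of roots, all parameters one. -/
noncomputable def P1 (T : Tbl) (F : Type*) [Field F] (L : List ℕ) : GL T.I F :=
  (L.map fun r => T.xU F r 1).prod

/-- Orthogonal positive roots. -/
def Ok (T : Tbl) (L : List ℕ) : Prop :=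
  (∀ r ∈ L, r < T.n ∧ T.half ≤ r) ∧ L.Pairwise fun r s => T.pair r s = 0

/-- The positive one of a root and its negative. -/
def absR (T : Tbl) (r : ℕ) : ℕ := bif Nat.ble T.half r then r else T.neg r

/-- A fundamental reflection on positive roots up to sign. -/
def mv (T : Tbl) (i r : ℕ) : ℕ := absR T (T.refl i r)

/-- A word of fundamental reflections, the first one acting first. -/
def mvW (T : Tbl) (w : List ℕ) (r : ℕ) : ℕ := w.foldl (fun r i => mv T i r) r

/-- The reflection in a root, where it is known. -/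
def sb (T : Tbl) (b r : ℕ) : Option ℕ :=
  bif decide (T.pair b r = 0) then some r
  else match T.sum? b r with
    | some (u, _) => some u
    | none => match T.sum? r (T.neg b) with
      | some (d, _) => match T.sum? b d with
        | some (v, _) => bif Nat.beq v r then some d else none
        | none => none
      | none => none

/-- Exchange two neighbours. -/
def swapAt (T : Tbl) : List ℕ → ℕ → Option (List ℕ)
  | a :: b :: W, 0 =>
    match T.sum? b a with
    | some (u, _) => some (b :: a :: u :: W)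
    | none => bif decide (0 ≤ T.pair a b) then some (b :: a :: W) else none
  | a :: W, k + 1 => (swapAt T W k).map (a :: ·)
  | _, _ => none

/-- Cancel two equal neighbours. -/
def cancelAt : List ℕ → ℕ → Option (List ℕ)
  | a :: b :: W, 0 => bif Nat.beq a b then some W else none
  | a :: W, k + 1 => (cancelAt W k).map (a :: ·)
  | _, _ => none

/-- One move on a word, beside the roots of `C`. -/
def stepOp (T : Tbl) (C W : List ℕ) : ℕ × ℕ → Option (List ℕ)
  | (0, a) => bif decide (a < T.n) && C.all (fun c => decide (T.pair a c = 0))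
      then some (a :: W ++ [a]) else none
  | (1, a) => bif decide (a < T.n) && C.all (fun c => decide (T.pair a c = 0)) then W.mapM (sb T a) else none
  | (2, k) => swapAt T W k
  | (_, k) => cancelAt W k

/-- A chain of moves. -/
def runOps (T : Tbl) (C : List ℕ) : List ℕ → List (ℕ × ℕ) → Option (List ℕ)
  | W, [] => some W
  | W, o :: os => (stepOp T C W o).bind fun W' => runOps T C W' os

variable {T : Tbl} (h : SL T) {F : Type*} [Field F] [CharP F 2]

omit [CharP F 2] in
theorem P1_nil : P1 T F [] = 1 := rfl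

omit [CharP F 2] in
theorem P1_cons (r : ℕ) (L : List ℕ) : P1 T F (r :: L) = T.xU F r 1 * P1 T F L := rfl

omit [CharP F 2] in
theorem P1_append (L M : List ℕ) : P1 T F (L ++ M) = P1 T F L * P1 T F M := by
  simp [P1]

include h

omit [CharP F 2] in
theorem ok_perm {L M : List ℕ} (p : L.Perm M) (hL : Ok T L) : Ok T M := by
  refine ⟨fun r hr => hL.1 r (p.mem_iff.mpr hr), ?_⟩
  have h1 : L.Pairwise fun r s => r < T.n ∧ s < T.n ∧ T.pair r s = 0 :=
    hL.2.imp_of_mem fun hr hs e => ⟨(hL.1 _ hr).1, (hL.1 _ hs).1, e⟩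
  exact (h1.perm p fun {r s} ⟨hr, hs, e⟩ => ⟨hs, hr, by rw [pair_symm h hs hr, e]⟩).imp fun e => e.2.2

theorem P1_perm {L M : List ℕ} (p : L.Perm M) (hL : Ok T L) : P1 T F L = P1 T F M := by
  refine (p.map _).prod_eq' (List.pairwise_map.mpr ?_)
  exact hL.2.imp_of_mem fun hr hs e => commute h (hL.1 _ hr).1 (hL.1 _ hs).1 (le_of_eq e.symm) 1 1

theorem nU_eq_nb {r : ℕ} (hr : r < T.n) : T.nU F r 1 = nb T F r := by
  rw [nb, Tbl.nU, inv_one, CharTwo.neg_eq]

omit h [CharP F 2] in
theorem cj_cons {B : List ℕ} {r : ℕ} {t : F} {y y' : GL T.I F} (hc : Cj T F (r :: B) y y') :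
    Cj T F B (T.xU F r t * y) (T.xU F r t * y') := by
  obtain ⟨g, g1, g2, rfl⟩ := hc
  refine ⟨g, g1, fun b hb => g2 b (List.mem_cons_of_mem _ hb), ?_⟩
  rw [← mul_assoc, (g2 r List.mem_cons_self t).eq]
  group

omit h [CharP F 2] in
theorem cj_append : ∀ {C B : List ℕ} {y y' : GL T.I F}, Cj T F (C ++ B) y y' →
    Cj T F B (P1 T F C * y) (P1 T F C * y') := by
  intro C
  induction C with
  | nil => intro B y y' hc; simpa [P1_nil] using hc
  | cons c C ih =>
    intro B y y' hc
    have h1 : Cj T F (C ++ c :: B) y y' := by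
      obtain ⟨g, g1, g2, e⟩ := hc
      refine ⟨g, g1, fun b hb => g2 b ?_, e⟩
      simp only [List.mem_append, List.mem_cons] at hb ⊢
      tauto
    simp only [P1_cons, mul_assoc]
    exact cj_cons (ih h1)

theorem nb_self {r : ℕ} (hr : r < T.n) :
    nb T F r * T.xU F r 1 * (nb T F r)⁻¹ = T.xU F (T.neg r) 1 := by
  rw [← nU_eq_nb h hr, nU_conj h.valid hr, CharTwo.neg_eq, mul_inv_cancel_right]

theorem nb_mem {r : ℕ} (hr : r < T.n) : nb T F r ∈ T.rootGen F (fun _ => True) :=
  mul_mem (mul_mem (xU_mem_rootGen hr trivial _) (xU_mem_rootGen (neg_lt' hr) trivial _))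
    (xU_mem_rootGen hr trivial _)

omit [CharP F 2] in
theorem absR_facts {r : ℕ} (hr : r < T.n) : absR T r < T.n ∧ T.half ≤ absR T r ∧
    (absR T r = r ∨ absR T r = T.neg r) := by
  unfold absR
  cases e : Nat.ble T.half r
  · have : ¬ T.half ≤ r := fun q => by rw [Nat.ble_eq_true_of_le q] at e; exact absurd e (by simp)
    refine ⟨neg_lt' hr, ?_, Or.inr rfl⟩
    show T.half ≤ T.neg r
    unfold Tbl.neg Tbl.n at *; omega
  · exact ⟨hr, Nat.le_of_ble_eq_true e, Or.inl rfl⟩

omit [CharP F 2] in
theorem pair_absR {r s : ℕ} (hr : r < T.n) (hs : s < T.n) (e : T.pair r s = 0) :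
    T.pair r (absR T s) = 0 := by
  rcases (absR_facts h hs).2.2 with q | q <;> rw [q]
  · exact e
  · rw [pair_neg h hr hs, e, neg_zero]

theorem cj_flip : ∀ (L B : List ℕ), (∀ r ∈ L, r < T.n) → (∀ b ∈ B, b < T.n) →
    (L.Pairwise fun r s => T.pair r s = 0) → (∀ r ∈ L, ∀ b ∈ B, T.pair r b = 0) →
    Cj T F B (P1 T F L) (P1 T F (L.map (absR T))) := by
  intro L
  induction L with
  | nil => exact fun B _ _ _ _ => cj_refl _ _
  | cons r L ih =>
    intro B hL hB hp hLB
    obtain ⟨hp1, hp2⟩ := List.pairwise_cons.mp hp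
    have hr := hL r List.mem_cons_self
    have hL' : ∀ s ∈ L, s < T.n := fun s hs => hL s (List.mem_cons_of_mem _ hs)
    have h1 := ih (r :: B) hL' (List.forall_mem_cons.mpr ⟨hr, hB⟩) hp2 fun s hs => List.forall_mem_cons.mpr
      ⟨by rw [pair_symm h (hL' s hs) hr]; exact hp1 s hs, hLB s (List.mem_cons_of_mem _ hs)⟩
    refine cj_trans (cj_cons (t := (1 : F)) h1) ?_
    rw [List.map_cons, P1_cons]
    rcases (absR_facts h hr).2.2 with q | q <;> rw [q]
    · exact cj_refl _ _
    · refine ⟨nb T F r, nb_mem h hr, fun b hb t => ?_, ?_⟩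
      · exact nb_zero h hr (hB b hb) (hLB r List.mem_cons_self b hb) t
      · have hc : Commute (nb T F r) (P1 T F (L.map (absR T))) := by
          refine Commute.list_prod_right _ _ fun u hu => ?_
          obtain ⟨s, hs, rfl⟩ := List.mem_map.mp hu
          obtain ⟨s', hs', rfl⟩ := List.mem_map.mp hs
          exact nb_zero h hr (absR_facts h (hL' s' hs')).1 (pair_absR h hr (hL' s' hs') (hp1 s' hs')) 1
        rw [← mul_assoc, mul_assoc _ (P1 T F _), ← hc.inv_left.eq, ← mul_assoc, nb_self h hr]

omit [CharP F 2] in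
theorem ok_mv {i : ℕ} (hi : i < T.rank) {L : List ℕ} (hL : Ok T L) : Ok T (L.map (mv T i)) := by
  constructor
  · intro r hr
    obtain ⟨s, hs, rfl⟩ := List.mem_map.mp hr
    exact ⟨(absR_facts h (refl_lt h.valid hi (hL.1 s hs).1)).1,
      (absR_facts h (refl_lt h.valid hi (hL.1 s hs).1)).2.1⟩
  · refine List.pairwise_map.mpr (hL.2.imp_of_mem fun {r s} hr hs e => ?_)
    have h1 := refl_lt h.valid hi (hL.1 r hr).1
    have h2 := refl_lt h.valid hi (hL.1 s hs).1
    have h3 : T.pair (T.refl i r) (T.refl i s) = 0 := by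
      rw [Tbl.pair_refl h.valid hi (hL.1 r hr).1 (refl_lt h.valid hi (hL.1 s hs).1),
        refl_refl h.valid hi (hL.1 s hs).1, e]
    rw [mv, mv, pair_symm h (absR_facts h h1).1 (absR_facts h h2).1]
    refine pair_absR h (absR_facts h h2).1 h1 ?_
    rw [pair_symm h (absR_facts h h2).1 h1]
    exact pair_absR h h1 h2 h3

theorem cj_mv {i : ℕ} (hi : i < T.rank) {L : List ℕ} (hL : Ok T L) :
    Cj T F [] (P1 T F L) (P1 T F (L.map (mv T i))) := by
  have hs := simple_lt h.valid hi
  have h1 : Cj T F [] (P1 T F L) (P1 T F (L.map (T.refl i))) := by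
    refine ⟨T.nU F (T.simple i) 1, (nU_eq_nb (F := F) h hs) ▸ nb_mem h hs,
      fun b hb => absurd hb List.not_mem_nil, ?_⟩
    have key : ∀ M : List ℕ, (∀ r ∈ M, r < T.n) →
        T.nU F (T.simple i) 1 * P1 T F M = P1 T F (M.map (T.refl i)) * T.nU F (T.simple i) 1 := by
      intro M
      induction M with
      | nil => intro; simp [P1_nil]
      | cons r M ih =>
        intro hM
        have hη : (T.eta i r : F) = 1 := by
          rcases eta_sq h.valid hi (hM r List.mem_cons_self) with q | q <;> simp [q, CharTwo.neg_eq]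
        rw [List.map_cons, P1_cons, P1_cons, ← mul_assoc,
          nU_simple_xU h.valid hi (hM r List.mem_cons_self), hη, one_mul, mul_assoc,
          ih fun s hs => hM s (List.mem_cons_of_mem _ hs), ← mul_assoc]
    rw [key L fun r hr => (hL.1 r hr).1, mul_inv_cancel_right]
  refine cj_trans h1 ?_
  have hLr : ∀ r ∈ L.map (T.refl i), r < T.n := fun r hr => by
    obtain ⟨s, hs, rfl⟩ := List.mem_map.mp hr
    exact refl_lt h.valid hi (hL.1 s hs).1
  have := cj_flip (F := F) h (L.map (T.refl i)) [] hLr (fun b hb => absurd hb List.not_mem_nil)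
    (List.pairwise_map.mpr (hL.2.imp_of_mem fun {r s} hr hs e => by
      rw [Tbl.pair_refl h.valid hi (hL.1 r hr).1 (refl_lt h.valid hi (hL.1 s hs).1),
        refl_refl h.valid hi (hL.1 s hs).1, e]))
    (fun r _ b hb => absurd hb List.not_mem_nil)
  rwa [List.map_map] at this

theorem ok_cj_mvW : ∀ (w : List ℕ) {L : List ℕ}, (∀ i ∈ w, i < T.rank) → Ok T L →
    Ok T (L.map (mvW T w)) ∧ Cj T F [] (P1 T F L) (P1 T F (L.map (mvW T w))) := by
  intro w
  induction w with
  | nil =>
    intro L _ hL
    have : L.map (mvW T []) = L := List.map_id L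
    rw [this]
    exact ⟨hL, cj_refl _ _⟩
  | cons i w ih =>
    intro L hw hL
    obtain ⟨a, b⟩ := ih (fun j hj => hw j (List.mem_cons_of_mem _ hj)) (ok_mv h (hw i List.mem_cons_self) hL)
    rw [List.map_map] at a b
    exact ⟨a, cj_trans (cj_mv h (hw i List.mem_cons_self) hL) b⟩

theorem sb_sound {b r r' : ℕ} (hb : b < T.n) (hr : r < T.n) (e : sb T b r = some r') :
    r' < T.n ∧ nb T F b * T.xU F r 1 = T.xU F r' 1 * nb T F b := by
  unfold sb at e
  cases q : decide (T.pair b r = 0) <;> rw [q] at e
  · simp only [cond_false] at e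
    cases e1 : T.sum? b r with
    | some p =>
      simp only [e1, Option.some.injEq] at e
      subst e
      exact ⟨sum?_lt h.valid hb hr e1, nb_add h hb hr e1 1⟩
    | none =>
      simp only [e1] at e
      cases e2 : T.sum? r (T.neg b) with
      | none => simp [e2] at e
      | some p =>
        simp only [e2] at e
        cases e3 : T.sum? b p.1 with
        | none => simp [e3] at e
        | some p' =>
          simp only [e3] at e
          cases e4 : Nat.beq p'.1 r <;> simp [e4] at e
          subst e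
          have hd := sum?_lt h.valid hr (neg_lt' hb) e2
          exact ⟨hd, nb_sub (r := r) h hb hd (by rw [e3, ← Nat.eq_of_beq_eq_true e4]) 1⟩
  · simp only [cond_true, Option.some.injEq] at e
    subst e
    exact ⟨hr, nb_zero h hb hr (by simpa using q) 1⟩

theorem swap_sound : ∀ {W : List ℕ} {k : ℕ} {W' : List ℕ}, (∀ r ∈ W, r < T.n) →
    swapAt T W k = some W' → (∀ r ∈ W', r < T.n) ∧ P1 T F W = P1 T F W' := by
  intro W
  induction W with
  | nil => intro k W' _ e; cases k <;> simp [swapAt] at e
  | cons a W ih =>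
    intro k W' hW e
    have ha := hW a List.mem_cons_self
    cases k with
    | succ k =>
      cases e1 : swapAt T W k with
      | none => simp [swapAt, e1] at e
      | some V =>
        simp only [swapAt, e1, Option.map_some, Option.some.injEq] at e
        subst e
        obtain ⟨h1, h2⟩ := ih (fun r hr => hW r (List.mem_cons_of_mem _ hr)) e1
        exact ⟨List.forall_mem_cons.mpr ⟨ha, h1⟩, by rw [P1_cons, P1_cons, h2]⟩
    | zero =>
      cases W with
      | nil => simp [swapAt] at e
      | cons b W =>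
        have hb := hW b (List.mem_cons_of_mem _ List.mem_cons_self)
        have hW' : ∀ r ∈ W, r < T.n := fun r hr => hW r (List.mem_cons_of_mem _ (List.mem_cons_of_mem _ hr))
        cases e1 : T.sum? b a with
        | some p =>
          simp only [swapAt, e1, Option.some.injEq] at e
          subst e
          refine ⟨List.forall_mem_cons.mpr ⟨hb, List.forall_mem_cons.mpr ⟨ha, List.forall_mem_cons.mpr
            ⟨sum?_lt h.valid hb ha e1, hW'⟩⟩⟩, ?_⟩
          rw [P1_cons, P1_cons, P1_cons, P1_cons, P1_cons, ← mul_assoc, swap h hb ha e1, mul_one]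
          simp only [mul_assoc]
        | none =>
          cases e2 : decide (0 ≤ T.pair a b) <;> simp [swapAt, e1, e2] at e
          subst e
          refine ⟨List.forall_mem_cons.mpr ⟨hb, List.forall_mem_cons.mpr ⟨ha, hW'⟩⟩, ?_⟩
          rw [P1_cons, P1_cons, P1_cons, P1_cons, ← mul_assoc,
            (commute h ha hb (by simpa using e2) 1 1).eq, mul_assoc]

theorem cancel_sound : ∀ {W : List ℕ} {k : ℕ} {W' : List ℕ}, (∀ r ∈ W, r < T.n) →
    cancelAt W k = some W' → (∀ r ∈ W', r < T.n) ∧ P1 T F W = P1 T F W' := by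
  intro W
  induction W with
  | nil => intro k W' _ e; cases k <;> simp [cancelAt] at e
  | cons a W ih =>
    intro k W' hW e
    cases k with
    | succ k =>
      cases e1 : cancelAt W k with
      | none => simp [cancelAt, e1] at e
      | some V =>
        simp only [cancelAt, e1, Option.map_some, Option.some.injEq] at e
        subst e
        obtain ⟨h1, h2⟩ := ih (fun r hr => hW r (List.mem_cons_of_mem _ hr)) e1
        exact ⟨List.forall_mem_cons.mpr ⟨hW a List.mem_cons_self, h1⟩, by rw [P1_cons, P1_cons, h2]⟩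
    | zero =>
      cases W with
      | nil => simp [cancelAt] at e
      | cons b W =>
        cases e1 : Nat.beq a b <;> simp [cancelAt, e1] at e
        subst e
        obtain rfl := Nat.eq_of_beq_eq_true e1
        exact ⟨fun r hr => hW r (List.mem_cons_of_mem _ (List.mem_cons_of_mem _ hr)),
          by rw [P1_cons, P1_cons, ← mul_assoc, xx_self h (hW a List.mem_cons_self), one_mul]⟩

theorem map_sound {b : ℕ} (hb : b < T.n) : ∀ {W W' : List ℕ}, (∀ r ∈ W, r < T.n) →
    W.mapM (sb T b) = some W' →
    (∀ r ∈ W', r < T.n) ∧ nb T F b * P1 T F W = P1 T F W' * nb T F b := by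
  intro W
  induction W with
  | nil => intro W' _ e; simp at e; subst e; simp [P1_nil]
  | cons a W ih =>
    intro W' hW e
    simp only [List.mapM_cons, Option.bind_eq_bind, Option.bind_eq_some_iff, Option.pure_def,
      Option.some.injEq] at e
    obtain ⟨a', ea, V, eV, rfl⟩ := e
    obtain ⟨h1, h2⟩ := ih (fun r hr => hW r (List.mem_cons_of_mem _ hr)) eV
    obtain ⟨h3, h4⟩ := sb_sound (F := F) h hb (hW a List.mem_cons_self) ea
    exact ⟨List.forall_mem_cons.mpr ⟨h3, h1⟩,
      by rw [P1_cons, P1_cons, ← mul_assoc, h4, mul_assoc, h2, ← mul_assoc]⟩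

theorem step_sound {C W W' : List ℕ} (hC : ∀ c ∈ C, c < T.n) (hW : ∀ r ∈ W, r < T.n) {o : ℕ × ℕ}
    (e : stepOp T C W o = some W') : (∀ r ∈ W', r < T.n) ∧ Cj T F C (P1 T F W) (P1 T F W') := by
  obtain ⟨k, a⟩ := o
  rcases k with _ | _ | _ | k
  · simp only [stepOp] at e
    cases q : (decide (a < T.n) && C.all fun c => decide (T.pair a c = 0)) <;> rw [q] at e <;> simp at e
    subst e
    simp only [Bool.and_eq_true, decide_eq_true_eq, List.all_eq_true] at q
    refine ⟨fun r hr => ?_, T.xU F a 1, xU_mem_rootGen q.1 trivial _,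
      fun c hc t => commute h q.1 (hC c hc) (le_of_eq (q.2 c hc).symm) 1 t, ?_⟩
    · simp only [List.cons_append, List.mem_cons, List.mem_append, List.not_mem_nil, or_false] at hr
      rcases hr with rfl | hr | rfl
      · exact q.1
      · exact hW r hr
      · exact q.1
    · rw [P1_cons, P1_append, P1_cons, P1_nil, mul_one, xx_inv h q.1, mul_assoc]
  · simp only [stepOp] at e
    cases q : (decide (a < T.n) && C.all fun c => decide (T.pair a c = 0)) <;> rw [q] at e <;> simp at e
    simp only [Bool.and_eq_true, decide_eq_true_eq, List.all_eq_true] at q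
    obtain ⟨h1, h2⟩ := map_sound (F := F) h q.1 hW e
    exact ⟨h1, nb T F a, nb_mem h q.1, fun c hc t => nb_zero h q.1 (hC c hc) (q.2 c hc) t,
      by rw [h2, mul_inv_cancel_right]⟩
  · obtain ⟨h1, h2⟩ := swap_sound (F := F) h hW (show swapAt T W a = some W' from e)
    exact ⟨h1, by rw [h2]; exact cj_refl _ _⟩
  · obtain ⟨h1, h2⟩ := cancel_sound (F := F) h hW (show cancelAt W a = some W' from e)
    exact ⟨h1, by rw [h2]; exact cj_refl _ _⟩

theorem run_sound {C : List ℕ} (hC : ∀ c ∈ C, c < T.n) : ∀ (os : List (ℕ × ℕ)) {W W' : List ℕ},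
    (∀ r ∈ W, r < T.n) → runOps T C W os = some W' → Cj T F C (P1 T F W) (P1 T F W') := by
  intro os
  induction os with
  | nil => intro W W' _ e; simp [runOps] at e; subst e; exact cj_refl _ _
  | cons o os ih =>
    intro W W' hW e
    simp only [runOps, Option.bind_eq_some_iff] at e
    obtain ⟨V, e1, e2⟩ := e
    obtain ⟨h1, h2⟩ := step_sound (F := F) h hC hW e1
    exact cj_trans h2 (ih h1 e2)

end CfsgLib.SLInv
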