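import Cfsg.Agent.Lib.KnownB.SLInv.Basic

/-!
Positive involutions of simply laced Chevalley groups in characteristic two are conjugate to products
of root elements of orthogonal roots.
-/

set_option autoImplicit false
set_option linter.all false
set_option maxHeartbeats 1000000

namespace CfsgLib.SLInv

open CfsgLib.Chevalley CfsgLib.Chevalley.Tbl

/-- The positive roots orthogonal to a list of roots. -/
def Perp (T : Tbl) (B : List ℕ) (r : ℕ) : Prop := r < T.n ∧ T.half ≤ r ∧ ∀ b ∈ B, T.pair r b = 0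

/-- Not a sum of two roots of the subsystem. -/
def Ind (T : Tbl) (B : List ℕ) (a : ℕ) : Prop :=
  Perp T B a ∧ ∀ r s N, Perp T B r → Perp T B s → T.sum? r s ≠ some (a, N)

variable {T : Tbl} (h : SL T) {F : Type*} [Field F] [CharP F 2]
include h

theorem perp_sum {B : List ℕ} (hB : ∀ b ∈ B, b < T.n) {r s u : ℕ} {N : ℤ} (pr : Perp T B r)
    (ps : Perp T B s) (e : T.sum? r s = some (u, N)) : Perp T B u :=
  ⟨sum?_lt h.valid pr.1 ps.1 e, pos_sum h pr.1 ps.1 e pr.2.1 ps.2.1, fun b hb => by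
    rw [pair_sum h (hB b hb) pr.1 ps.1 e, pr.2.2 b hb, ps.2.2 b hb, add_zero]⟩

theorem ne_neg_of_pos {r s : ℕ} (hr : r < T.n) (pr : T.half ≤ r) (ps : T.half ≤ s) : s ≠ T.neg r := by
  have := (pos_facts h hr pr).2
  omega

theorem exists_ind {B : List ℕ} (hB : ∀ b ∈ B, b < T.n) (φ : ℕ → ℤ)
    (hadd : ∀ r s u N, r < T.n → s < T.n → T.sum? r s = some (u, N) → φ u = φ r + φ s) :
    ∀ (k : ℕ) (r : ℕ), Perp T B r → (T.ht r).toNat ≤ k → 0 < φ r →
      ∃ b, Ind T B b ∧ 0 < φ b ∧ T.ht b ≤ T.ht r := by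
  intro k
  induction k with
  | zero => intro r hr hk; have := (pos_facts h hr.1 hr.2.1).1; omega
  | succ k ih =>
    intro r hr hk hφ
    by_cases hi : Ind T B r
    · exact ⟨r, hi, hφ, le_rfl⟩
    · obtain ⟨s, t, N, hs, ht, e⟩ : ∃ s t N, Perp T B s ∧ Perp T B t ∧ T.sum? s t = some (r, N) := by
        by_contra hc
        exact hi ⟨hr, fun s t N hs ht e => hc ⟨s, t, N, hs, ht, e⟩⟩
      have h1 := hadd s t r N hs.1 ht.1 e
      have h2 := ht_sum h hs.1 ht.1 e
      have h3 := (pos_facts h hs.1 hs.2.1).1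
      have h4 := (pos_facts h ht.1 ht.2.1).1
      rcases (show 0 < φ s ∨ 0 < φ t by omega) with hp | hp
      · obtain ⟨b, hb, hb1, hb2⟩ := ih s hs (by omega) hp
        exact ⟨b, hb, hb1, by omega⟩
      · obtain ⟨b, hb, hb1, hb2⟩ := ih t ht (by omega) hp
        exact ⟨b, hb, hb1, by omega⟩

theorem exists_ind_below {B : List ℕ} (hB : ∀ b ∈ B, b < T.n) {k : ℕ} (hk : Perp T B k)
    (hni : ¬ Ind T B k) : ∃ b, Ind T B b ∧ T.pair k b = 1 ∧ T.ht b < T.ht k := by
  obtain ⟨s, t, N, hs, ht, e⟩ : ∃ s t N, Perp T B s ∧ Perp T B t ∧ T.sum? s t = some (k, N) := by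
    by_contra hc
    exact hni ⟨hk, fun s t N hs ht e => hc ⟨s, t, N, hs, ht, e⟩⟩
  have hadd : ∀ r s u N, r < T.n → s < T.n → T.sum? r s = some (u, N) →
      T.pair u k = T.pair r k + T.pair s k := fun r s u N hr hs e => pair_sum h hk.1 hr hs e
  have h1 := hadd s t k N hs.1 ht.1 e
  have h2 := ht_sum h hs.1 ht.1 e
  have h3 := (pos_facts h hs.1 hs.2.1).1
  have h4 := (pos_facts h ht.1 ht.2.1).1
  rw [pair_self' h hk.1] at h1
  obtain ⟨b, hb, hb1, hb2⟩ : ∃ b, Ind T B b ∧ 0 < T.pair b k ∧ T.ht b < T.ht k := by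
    rcases (show 0 < T.pair s k ∨ 0 < T.pair t k by omega) with hp | hp
    · obtain ⟨b, hb, hb1, hb2⟩ := exists_ind h hB (fun r => T.pair r k) hadd _ s hs le_rfl hp
      exact ⟨b, hb, hb1, by omega⟩
    · obtain ⟨b, hb, hb1, hb2⟩ := exists_ind h hB (fun r => T.pair r k) hadd _ t ht le_rfl hp
      exact ⟨b, hb, hb1, by omega⟩
  refine ⟨b, hb, ?_, hb2⟩
  have hne : b ≠ k := fun q => hni (q ▸ hb)
  rcases pair_range h hb.1.1 hk.1 (fun q => hne q.symm)
      (ne_neg_of_pos h hb.1.1 hb.1.2.1 hk.2.1) with q | q | q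
  · omega
  · omega
  · rw [pair_symm h hk.1 hb.1.1]; exact q

theorem perp_ne_closed {B : List ℕ} (hB : ∀ b ∈ B, b < T.n) {a : ℕ} (ha : Ind T B a) :
    T.Closed (fun r => Perp T B r ∧ r ≠ a) :=
  closed_of h fun r hr s hs pr ps u N e =>
    ⟨perp_sum h hB pr.1 ps.1 e, fun q => ha.2 r s N pr.1 ps.1 (q ▸ e)⟩

theorem ind_norm {B : List ℕ} (hB : ∀ b ∈ B, b < T.n) {a : ℕ} (ha : Ind T B a) (t : F) :
    T.xU F a t ∈ Subgroup.normalizer (T.rootGen F (fun r => Perp T B r ∧ r ≠ a) : Set (GL T.I F)) :=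
  norm_of h ha.1.1 ha.1.2.1 (fun r hr => hr.1.2.1) (fun s hs ps u N e =>
    ⟨perp_sum h hB ha.1 ps.1 e, fun q => ha.2 a s N ha.1 ps.1 (q ▸ e)⟩) t

/-- Conjugate by an element centralising the root subgroups of a list of roots. -/
def Cj (T : Tbl) (F : Type*) [Field F] (B : List ℕ) (y y' : GL T.I F) : Prop :=
  ∃ g, g ∈ T.rootGen F (fun _ => True) ∧ (∀ b ∈ B, ∀ t, Commute g (T.xU F b t)) ∧ g * y * g⁻¹ = y'

omit h [CharP F 2] in
theorem cj_refl (B : List ℕ) (y : GL T.I F) : Cj T F B y y :=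
  ⟨1, one_mem _, fun _ _ t => Commute.one_left _, by group⟩

omit h [CharP F 2] in
theorem cj_trans {B : List ℕ} {x y z : GL T.I F} (h1 : Cj T F B x y) (h2 : Cj T F B y z) :
    Cj T F B x z := by
  obtain ⟨g, g1, g2, rfl⟩ := h1
  obtain ⟨g', g1', g2', rfl⟩ := h2
  exact ⟨g' * g, mul_mem g1' g1, fun b hb t => (g2' b hb t).mul_left (g2 b hb t), by group⟩

omit h [CharP F 2] in
theorem cj_sq {B : List ℕ} {x y : GL T.I F} (h1 : Cj T F B x y) (hx : x * x = 1) : y * y = 1 := by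
  obtain ⟨g, -, -, rfl⟩ := h1
  rw [conj_mul, hx, mul_one, mul_inv_cancel]

theorem xU_comm_perp {B : List ℕ} (hB : ∀ b ∈ B, b < T.n) {c : ℕ} (hc : Perp T B c) (s : F) :
    ∀ b ∈ B, ∀ t, Commute (T.xU F c s) (T.xU F b t) :=
  fun b hb t => commute h hc.1 (hB b hb) (le_of_eq (hc.2.2 b hb).symm) s t

theorem cj_xU {B : List ℕ} (hB : ∀ b ∈ B, b < T.n) {c : ℕ} (hc : Perp T B c) (s : F) (y : GL T.I F) :
    Cj T F B y (T.xU F c s * y * (T.xU F c s)⁻¹) :=
  ⟨_, xU_mem_rootGen hc.1 trivial _, xU_comm_perp h hB hc s, rfl⟩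

/-- The reflection representative of a root. -/
noncomputable def nb (T : Tbl) (F : Type*) [Field F] (b : ℕ) : GL T.I F :=
  T.xU F b 1 * T.xU F (T.neg b) 1 * T.xU F b 1

theorem nb_inv {b : ℕ} (hb : b < T.n) : (nb T F b)⁻¹ = nb T F b := by
  rw [nb, mul_inv_rev, mul_inv_rev, xx_inv h hb, xx_inv h (neg_lt' hb), mul_assoc]

theorem nb_zero {b r : ℕ} (hb : b < T.n) (hr : r < T.n) (e : T.pair b r = 0) (t : F) :
    nb T F b * T.xU F r t = T.xU F r t * nb T F b := by
  have h1 : Commute (T.xU F b 1) (T.xU F r t) := commute h hb hr (le_of_eq e.symm) 1 t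
  have h2 : Commute (T.xU F (T.neg b) 1) (T.xU F r t) := commute h (neg_lt' hb) hr (by
    rw [pair_symm h (neg_lt' hb) hr, pair_neg h hr hb, pair_symm h hr hb, e]; omega) 1 t
  exact ((h1.mul_left h2).mul_left h1).eq

theorem nb_add {b r u : ℕ} {N : ℤ} (hb : b < T.n) (hr : r < T.n) (e : T.sum? b r = some (u, N)) (t : F) :
    nb T F b * T.xU F r t = T.xU F u t * nb T F b := by
  have hu : u < T.n := sum?_lt h.valid hb hr e
  obtain ⟨N', e'⟩ := sum_cancel h hb hr e
  have pbr : T.pair b r = -1 := sum_pair h hb hr e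
  have pub : T.pair u b = 1 := by
    rw [pair_sum h hb hb hr e, pair_self' h hb, pair_symm h hr hb, pbr]; omega
  have pur : T.pair u r = 1 := by
    rw [pair_sum h hr hb hr e, pbr, pair_self' h hr]; omega
  have e1 : T.xU F b 1 * T.xU F r t = T.xU F r t * T.xU F b 1 * T.xU F u t := by
    rw [swap h hr hb (sum?_symm h.valid hb hr e), mul_one]
  have e2 : T.xU F (T.neg b) 1 * T.xU F u t = T.xU F u t * T.xU F (T.neg b) 1 * T.xU F r t := by
    rw [swap h hu (neg_lt' hb) (sum?_symm h.valid (neg_lt' hb) hu e'), mul_one]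
  have c1 : Commute (T.xU F b 1) (T.xU F u t) :=
    commute h hb hu (by rw [pair_symm h hb hu, pub]; omega) 1 t
  have c2 : Commute (T.xU F (T.neg b) 1) (T.xU F r t) := commute h (neg_lt' hb) hr (by
    rw [pair_symm h (neg_lt' hb) hr, pair_neg h hr hb, pair_symm h hr hb, pbr]; omega) 1 t
  have c3 : Commute (T.xU F r t) (T.xU F u t) :=
    commute h hr hu (by rw [pair_symm h hr hu, pur]; omega) t t
  calc nb T F b * T.xU F r t
      = T.xU F b 1 * T.xU F (T.neg b) 1 * (T.xU F r t * T.xU F b 1 * T.xU F u t) := by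
        rw [nb, mul_assoc _ (T.xU F b 1) (T.xU F r t), e1]
    _ = T.xU F b 1 * (T.xU F (T.neg b) 1 * T.xU F r t) * (T.xU F b 1 * T.xU F u t) := by
        simp only [mul_assoc]
    _ = T.xU F b 1 * (T.xU F r t * T.xU F (T.neg b) 1) * (T.xU F u t * T.xU F b 1) := by
        rw [c2.eq, c1.eq]
    _ = T.xU F b 1 * T.xU F r t * (T.xU F (T.neg b) 1 * T.xU F u t) * T.xU F b 1 := by
        simp only [mul_assoc]
    _ = T.xU F r t * T.xU F b 1 * T.xU F u t * (T.xU F u t * T.xU F (T.neg b) 1 * T.xU F r t) *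
        T.xU F b 1 := by rw [e1, e2]
    _ = T.xU F r t * T.xU F b 1 * (T.xU F u t * T.xU F u t) * (T.xU F (T.neg b) 1 * T.xU F r t) *
        T.xU F b 1 := by simp only [mul_assoc]
    _ = T.xU F r t * T.xU F b 1 * (T.xU F r t * T.xU F (T.neg b) 1) * T.xU F b 1 := by
        rw [xx_self h hu, mul_one, c2.eq]
    _ = T.xU F r t * (T.xU F b 1 * T.xU F r t) * T.xU F (T.neg b) 1 * T.xU F b 1 := by
        simp only [mul_assoc]
    _ = T.xU F r t * (T.xU F r t * (T.xU F b 1 * T.xU F u t)) * T.xU F (T.neg b) 1 * T.xU F b 1 := by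
        rw [e1, mul_assoc (T.xU F r t) (T.xU F b 1)]
    _ = (T.xU F r t * T.xU F r t) * (T.xU F u t * T.xU F b 1) * T.xU F (T.neg b) 1 * T.xU F b 1 := by
        rw [c1.eq]; simp only [mul_assoc]
    _ = T.xU F u t * nb T F b := by rw [xx_self h hr, one_mul, nb]; simp only [mul_assoc]

theorem nb_sub {b r d : ℕ} {N : ℤ} (hb : b < T.n) (hd : d < T.n) (e : T.sum? b d = some (r, N)) (t : F) :
    nb T F b * T.xU F r t = T.xU F d t * nb T F b := by
  have := nb_add h hb hd e t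
  have e2 : nb T F b * (nb T F b * T.xU F d t) = nb T F b * (T.xU F r t * nb T F b) := by rw [this]
  have hs : nb T F b * nb T F b = 1 := by
    nth_rewrite 1 [← nb_inv h hb]
    exact inv_mul_cancel _
  rw [← mul_assoc, hs, one_mul, ← mul_assoc] at e2
  calc nb T F b * T.xU F r t = nb T F b * T.xU F r t * (nb T F b * nb T F b) := by rw [hs, mul_one]
    _ = T.xU F d t * nb T F b := by rw [← mul_assoc, ← e2]

theorem cj_nb {B : List ℕ} (hB : ∀ b ∈ B, b < T.n) {c : ℕ} (hc : Perp T B c) (y : GL T.I F) :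
    Cj T F B y (nb T F c * y * (nb T F c)⁻¹) :=
  ⟨_, mul_mem (mul_mem (xU_mem_rootGen hc.1 trivial _) (xU_mem_rootGen (neg_lt' hc.1) trivial _))
    (xU_mem_rootGen hc.1 trivial _),
    fun b hb t => nb_zero h hc.1 (hB b hb) (hc.2.2 b hb) t, rfl⟩

/-- The height of the image under the reflection in `b`. -/
def reflHt (T : Tbl) (b r : ℕ) : ℤ := T.ht r - T.pair r b * T.ht b

theorem nb_image {B : List ℕ} (hB : ∀ b ∈ B, b < T.n) {b : ℕ} (hb : Ind T B b) {r : ℕ}
    (hr : Perp T B r) (hne : r ≠ b) :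
    ∃ r', Perp T B r' ∧ r' ≠ b ∧ T.ht r' = reflHt T b r ∧ reflHt T b r' = T.ht r ∧
      ∀ t : F, nb T F b * T.xU F r t = T.xU F r' t * nb T F b := by
  have hb1 := hb.1.1
  rcases pair_range h hb1 hr.1 hne (ne_neg_of_pos h hb1 hb.1.2.1 hr.2.1) with q | q | q
  · obtain ⟨u, N, e⟩ := sum_of_pair h hb1 hr.1 q
    refine ⟨u, perp_sum h hB hb.1 hr e, fun w => hb.2 b r N hb.1 hr (w ▸ e), ?_, ?_, nb_add h hb1 hr.1 e⟩
    · rw [ht_sum h hb1 hr.1 e, reflHt, pair_symm h hr.1 hb1, q]; ring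
    · rw [reflHt, pair_sum h hb1 hb1 hr.1 e, pair_self' h hb1, pair_symm h hr.1 hb1, q,
        ht_sum h hb1 hr.1 e]
      ring
  · refine ⟨r, hr, hne, ?_, ?_, nb_zero h hb1 hr.1 q⟩ <;>
    · rw [reflHt, pair_symm h hr.1 hb1, q]; ring
  · have q' : T.pair r b = 1 := by rw [pair_symm h hr.1 hb1, q]
    obtain ⟨d, N, hd, e⟩ := diff_of_pair h hr.1 hb1 q'
    have pd : ∀ c ∈ B, T.pair d c = 0 := fun c hc => by
      have := pair_sum h (hB c hc) hb1 hd e
      rw [hr.2.2 c hc, hb.1.2.2 c hc] at this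
      omega
    have hpos : T.half ≤ d := by
      by_contra hlt
      have hnd : T.half ≤ T.neg d := by unfold Tbl.neg Tbl.n at *; omega
      obtain ⟨N', e'⟩ := sum_cancel h hd hb1 (sum?_symm h.valid hb1 hd e)
      refine hb.2 (T.neg d) r N' ⟨neg_lt' hd, hnd, fun c hc => ?_⟩ hr e'
      rw [pair_symm h (neg_lt' hd) (hB c hc), pair_neg h (hB c hc) hd, pair_symm h (hB c hc) hd, pd c hc,
        neg_zero]
    refine ⟨d, ⟨hd, hpos, pd⟩, fun w => ?_, ?_, ?_, nb_sub h hb1 hd e⟩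
    · exact (sum_ne_neg h hb1 hd e).1 w
    · rw [reflHt, q', ht_sum h hb1 hd e]; ring
    · rw [reflHt, pair_symm h hd hb1, sum_pair h hb1 hd e, ht_sum h hb1 hd e]; ring

section Elimination

variable {B : List ℕ} (hB : ∀ b ∈ B, b < T.n) {a : ℕ} (ha : Ind T B a)

/-- The height of the bottom of the string through a root. -/
def bot (T : Tbl) (a r : ℕ) : ℤ := T.ht r - (if T.pair r a = 1 then T.ht a else 0)

/-- The stage of the elimination. -/
def Stage (T : Tbl) (B : List ℕ) (a : ℕ) (k : ℤ) (L : List ℕ) (r : ℕ) : Prop :=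
  (Perp T B r ∧ r ≠ a) ∧
    (T.pair r a = 0 ∨ k < bot T a r ∨ ∃ c ∈ L, r = c ∨ ∃ N, T.sum? a c = some (r, N))

/-- The strings handled at one level. -/
def Level (T : Tbl) (B : List ℕ) (a : ℕ) (k : ℤ) (c : ℕ) : Prop :=
  Perp T B c ∧ c ≠ a ∧ T.pair c a = -1 ∧ T.ht c = k

include hB ha

omit [CharP F 2] in
theorem gr_range {r : ℕ} (hr : Perp T B r) (hne : r ≠ a) :
    T.pair r a = -1 ∨ T.pair r a = 0 ∨ T.pair r a = 1 :=
  pair_range h hr.1 ha.1.1 (Ne.symm hne) (ne_neg_of_pos h hr.1 hr.2.1 ha.1.2.1)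

omit [CharP F 2] in
theorem top_bottom {r : ℕ} (hr : Perp T B r) (hp : T.pair r a = 1) :
    ∃ d N, Perp T B d ∧ d ≠ a ∧ T.pair d a = -1 ∧ T.sum? a d = some (r, N) ∧ T.ht d = bot T a r := by
  obtain ⟨d, N, hd, e⟩ := diff_of_pair h hr.1 ha.1.1 hp
  have pd : ∀ b ∈ B, T.pair d b = 0 := fun b hb => by
    have := pair_sum h (hB b hb) ha.1.1 hd e
    rw [hr.2.2 b hb, ha.1.2.2 b hb] at this
    omega
  have hdpos : T.half ≤ d := by
    by_contra hlt
    have hnd : T.half ≤ T.neg d := by unfold Tbl.neg Tbl.n at *; omega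
    obtain ⟨N', e'⟩ := sum_cancel h hd ha.1.1 (sum?_symm h.valid ha.1.1 hd e)
    refine ha.2 (T.neg d) r N' ⟨neg_lt' hd, hnd, fun b hb => ?_⟩ hr e'
    rw [pair_symm h (neg_lt' hd) (hB b hb), pair_neg h (hB b hb) hd, pair_symm h (hB b hb) hd, pd b hb,
      neg_zero]
  refine ⟨d, N, ⟨hd, hdpos, pd⟩, (sum_ne_neg h ha.1.1 hd e).1, ?_, e, ?_⟩
  · rw [pair_symm h hd ha.1.1]; exact sum_pair h ha.1.1 hd e
  · rw [bot, if_pos hp, ht_sum h ha.1.1 hd e]; ring

omit [CharP F 2] in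
theorem bot_pos {r : ℕ} (hr : Perp T B r) : 1 ≤ bot T a r := by
  by_cases hp : T.pair r a = 1
  · obtain ⟨d, N, hd, -, -, -, e⟩ := top_bottom h hB ha hr hp
    rw [← e]
    exact (pos_facts h hd.1 hd.2.1).1
  · rw [bot, if_neg hp]
    have := (pos_facts h hr.1 hr.2.1).1
    omega

omit [CharP F 2] in
theorem bot_sum {r s u : ℕ} {N : ℤ} (hr : Perp T B r) (hs : Perp T B s) (nr : r ≠ a) (ns : s ≠ a)
    (e : T.sum? r s = some (u, N)) :
    Perp T B u ∧ u ≠ a ∧ bot T a r < bot T a u ∧ bot T a s < bot T a u ∧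
      T.pair u a = T.pair r a + T.pair s a := by
  have hu := perp_sum h hB hr hs e
  have hua : u ≠ a := fun q => ha.2 r s N hr hs (q ▸ e)
  have h1 := pair_sum h ha.1.1 hr.1 hs.1 e
  have h2 := ht_sum h hr.1 hs.1 e
  have h3 := bot_pos h hB ha hr
  have h4 := bot_pos h hB ha hs
  have h5 := (pos_facts h ha.1.1 ha.1.2.1).1
  have g1 := gr_range h hB ha hu hua
  have g2 := gr_range h hB ha hr nr
  have g3 := gr_range h hB ha hs ns
  refine ⟨hu, hua, ?_, ?_, h1⟩ <;>
  · simp only [bot] at h3 h4 ⊢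
    rcases g2 with q | q | q <;> rcases g3 with q' | q' | q' <;> rcases g1 with q'' | q'' | q'' <;>
      simp [q, q', q''] at h1 h3 h4 ⊢ <;> omega

omit [CharP F 2] in
theorem stage_closed {k : ℤ} {L : List ℕ} (hL : ∀ c ∈ L, Level T B a k c) :
    T.Closed (Stage T B a k L) := by
  refine closed_of h fun r _ s _ pr ps u N e => ?_
  obtain ⟨hu, hua, b1, b2, g⟩ := bot_sum h hB ha pr.1.1 ps.1.1 pr.1.2 ps.1.2 e
  have key : ∀ x, Stage T B a k L x → T.pair x a = 0 ∨ k ≤ bot T a x := by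
    rintro x ⟨-, q | q | ⟨c, hc, q | ⟨N', q⟩⟩⟩
    · exact Or.inl q
    · exact Or.inr q.le
    · subst q; exact Or.inr (by rw [bot, if_neg (by rw [(hL x hc).2.2.1]; decide), (hL x hc).2.2.2, sub_zero])
    · refine Or.inr (le_of_eq ?_)
      obtain ⟨hc1, hc2, hc3, hc4⟩ := hL c hc
      rw [bot, if_pos, ht_sum h ha.1.1 hc1.1 q, hc4]
      · ring
      · rw [pair_sum h ha.1.1 ha.1.1 hc1.1 q, pair_self' h ha.1.1, hc3]; norm_num
  refine ⟨⟨hu, hua⟩, ?_⟩
  rcases key r pr with q | q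
  · rcases key s ps with q' | q'
    · exact Or.inl (by omega)
    · exact Or.inr (Or.inl (by omega))
  · exact Or.inr (Or.inl (by omega))

theorem stage_norm {k : ℤ} {L : List ℕ} {c : ℕ} (hc : Perp T B c) (hca : c ≠ a) (hck : k ≤ bot T a c)
    (t : F) : T.xU F c t ∈ Subgroup.normalizer (T.rootGen F (Stage T B a k L) : Set (GL T.I F)) := by
  refine norm_of h hc.1 hc.2.1 (fun r hr => hr.1.1.2.1) (fun s _ ps u N e => ?_) t
  obtain ⟨hu, hua, b1, -, -⟩ := bot_sum h hB ha hc ps.1.1 hca ps.1.2 e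
  exact ⟨⟨hu, hua⟩, Or.inr (Or.inl (by omega))⟩

theorem stage_norm_a {k : ℤ} {L : List ℕ} (hL : ∀ c ∈ L, Level T B a k c) (t : F) :
    T.xU F a t ∈ Subgroup.normalizer (T.rootGen F (Stage T B a k L) : Set (GL T.I F)) := by
  refine norm_of h ha.1.1 ha.1.2.1 (fun r hr => hr.1.1.2.1) (fun s hs ps u N e => ?_) t
  have hu := perp_sum h hB ha.1 ps.1.1 e
  have hp := sum_pair h ha.1.1 hs e
  rw [pair_symm h ha.1.1 hs] at hp
  have hbu : bot T a u = bot T a s := by
    rw [bot, bot, if_pos (by rw [pair_sum h ha.1.1 ha.1.1 hs e, pair_self' h ha.1.1, hp]; norm_num),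
      if_neg (by omega), ht_sum h ha.1.1 hs e]
    ring
  refine ⟨⟨hu, fun q => ha.2 a s N ha.1 ps.1.1 (q ▸ e)⟩, ?_⟩
  rcases ps.2 with q | q | ⟨c, hc, q | ⟨N', q⟩⟩
  · omega
  · exact Or.inr (Or.inl (hbu ▸ q))
  · subst q; exact Or.inr (Or.inr ⟨s, hc, Or.inr ⟨N, e⟩⟩)
  · exfalso
    obtain ⟨hc1, -, hc3, -⟩ := hL c hc
    rw [pair_sum h ha.1.1 ha.1.1 hc1.1 q, pair_self' h ha.1.1, hc3] at hp
    norm_num at hp

theorem elim_one {k : ℤ} {c : ℕ} {L : List ℕ} (hL : ∀ d ∈ c :: L, Level T B a k d) (hcL : c ∉ L)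
    {t : F} (ht : t ≠ 0) {w : GL T.I F} (hw : w ∈ T.rootGen F (Stage T B a k (c :: L)))
    (hy : T.xU F a t * w * (T.xU F a t * w) = 1) :
    ∃ w' ∈ T.rootGen F (Stage T B a k L), Cj T F B (T.xU F a t * w) (T.xU F a t * w') := by
  obtain ⟨hc, hca, hcp, hck⟩ := hL c List.mem_cons_self
  have hL' : ∀ d ∈ L, Level T B a k d := fun d hd => hL d (List.mem_cons_of_mem _ hd)
  obtain ⟨u, N, e⟩ := sum_of_pair h ha.1.1 hc.1 (by rw [pair_symm h ha.1.1 hc.1, hcp])
  have hu : Perp T B u := perp_sum h hB ha.1 hc e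
  have hua : u ≠ a := fun q => ha.2 a c N ha.1 hc (q ▸ e)
  have pua : T.pair u a = 1 := by
    rw [pair_sum h ha.1.1 ha.1.1 hc.1 e, pair_self' h ha.1.1, hcp]; norm_num
  have puc : T.pair u c = 1 := by
    rw [pair_sum h hc.1 ha.1.1 hc.1 e, pair_symm h ha.1.1 hc.1, hcp, pair_self' h hc.1]; norm_num
  have hbc : k ≤ bot T a c := by rw [bot, if_neg (by omega), hck, sub_zero]
  have hbu : bot T a u = k := by rw [bot, if_pos pua, ht_sum h ha.1.1 hc.1 e, hck]; ring
  have hS : T.Closed (Stage T B a k L) := stage_closed h hB ha hL'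
  have hSpos : ∀ r, Stage T B a k L r → T.half ≤ r := fun r hr => hr.1.1.2.1
  have hnu : ¬ Stage T B a k L u := by
    rintro ⟨-, q | q | ⟨d, hd, q | ⟨N', q⟩⟩⟩
    · omega
    · omega
    · subst q
      have := (hL' u hd).2.2.1
      omega
    · obtain ⟨M, e1⟩ := sum_cancel h ha.1.1 hc.1 e
      obtain ⟨M', e2⟩ := sum_cancel h ha.1.1 (hL' d hd).1.1 q
      rw [e1] at e2
      simp only [Option.some.injEq, Prod.mk.injEq] at e2
      exact hcL (e2.1 ▸ hd)
  obtain ⟨v, w1, hw1, rfl⟩ := split_root h hu.1 (P' := fun r => r = c ∨ Stage T B a k L r)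
    (fun r _ hr => by
      rcases hr with ⟨h1, q | q | ⟨d, hd, q⟩⟩
      · exact Or.inr (Or.inr ⟨h1, Or.inl q⟩)
      · exact Or.inr (Or.inr ⟨h1, Or.inr (Or.inl q)⟩)
      · rcases List.mem_cons.mp hd with rfl | hd
        · rcases q with q | ⟨N', q⟩
          · exact Or.inr (Or.inl q)
          · rw [e] at q
            simp only [Option.some.injEq, Prod.mk.injEq] at q
            exact Or.inl q.1.symm
        · exact Or.inr (Or.inr ⟨h1, Or.inr (Or.inr ⟨d, hd, q⟩)⟩))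
    (fun v => norm_of h hu.1 hu.2.1 (fun r hr => hr.elim (fun q => q ▸ hc.2.1) (hSpos r)) (fun s hs ps w N' e' => by
      refine Or.inr ?_
      rcases ps with rfl | ps
      · have := sum_pair h hu.1 hs e'
        omega
      · obtain ⟨h1, h2, h3, -, -⟩ := bot_sum h hB ha hu ps.1.1 hua ps.1.2 e'
        exact ⟨⟨h1, h2⟩, Or.inr (Or.inl (by omega))⟩) v) hw
  obtain ⟨γ, w2, hw2, rfl⟩ := split_root h hc.1 (P' := Stage T B a k L) (fun r _ hr => hr)
    (stage_norm h hB ha hc hca hbc) hw1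
  obtain ⟨g, hg⟩ : ∃ g, g = T.xU F c (v / t) := ⟨_, rfl⟩
  have hgn := stage_norm (F := F) h hB ha (L := L) hc hca hbc (v / t)
  have sw : ∀ s r : F, T.xU F c r * T.xU F a s = T.xU F a s * T.xU F c r * T.xU F u (s * r) :=
    fun s r => swap h ha.1.1 hc.1 e s r
  have ccu : ∀ r s : F, Commute (T.xU F c r) (T.xU F u s) :=
    fun r s => commute h hc.1 hu.1 (by rw [pair_symm h hc.1 hu.1, puc]; omega) r s
  have key : g * (T.xU F a t * (T.xU F u v * (T.xU F c γ * w2))) * g⁻¹ =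
      T.xU F a t * (T.xU F c γ * (g * w2 * g⁻¹)) := by
    subst hg
    calc _ = T.xU F c (v / t) * T.xU F a t * T.xU F u v * T.xU F c γ * (w2 * (T.xU F c (v / t))⁻¹) := by
          simp only [mul_assoc]
      _ = T.xU F a t * T.xU F c (v / t) * (T.xU F u v * T.xU F u v) * T.xU F c γ *
          (w2 * (T.xU F c (v / t))⁻¹) := by
          rw [sw, mul_div_cancel₀ _ ht]; simp only [mul_assoc]
      _ = T.xU F a t * (T.xU F c (v / t) * T.xU F c γ) * (w2 * (T.xU F c (v / t))⁻¹) := by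
          rw [xx_self h hu.1, mul_one]; simp only [mul_assoc]
      _ = _ := by
          rw [(commute h hc.1 hc.1 (by rw [pair_self' h hc.1]; omega) (v / t) γ).eq]
          simp only [mul_assoc]
  have hcj : Cj T F B (T.xU F a t * (T.xU F u v * (T.xU F c γ * w2)))
      (T.xU F a t * (T.xU F c γ * (g * w2 * g⁻¹))) := by
    rw [← key, hg]; exact cj_xU h hB hc _ _
  have hw3 : g * w2 * g⁻¹ ∈ T.rootGen F (Stage T B a k L) := conj_mem h (hg ▸ hgn) hw2
  generalize g * w2 * g⁻¹ = w3 at hw3 hcj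
  have hsq := cj_sq hcj hy
  have hx : ∀ r < T.n, ∀ s : F, T.xU F r s * T.xU F r s = 1 := fun r hr s => xx_self h hr s
  have h4 : T.xU F a t * w3 * (T.xU F a t)⁻¹ ∈ T.rootGen F (Stage T B a k L) :=
    conj_mem h (stage_norm_a h hB ha hL' t) hw3
  have h5 : T.xU F c γ * (T.xU F a t * w3 * (T.xU F a t)⁻¹) * (T.xU F c γ)⁻¹ ∈
      T.rootGen F (Stage T B a k L) := conj_mem h (stage_norm h hB ha hc hca hbc γ) h4
  rw [xx_inv h ha.1.1] at h5
  rw [xx_inv h hc.1] at h5
  have hsplit : T.xU F u (t * γ) * ((T.xU F c γ * (T.xU F a t * w3 * T.xU F a t) * T.xU F c γ) * w3) =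
      T.xU F a t * (T.xU F c γ * w3) * (T.xU F a t * (T.xU F c γ * w3)) := by
    calc _ = T.xU F u (t * γ) * T.xU F c γ * (T.xU F a t * w3 * T.xU F a t * T.xU F c γ * w3) := by
          simp only [mul_assoc]
      _ = (T.xU F a t * T.xU F a t) * T.xU F c γ * T.xU F u (t * γ) *
          (T.xU F a t * w3 * T.xU F a t * T.xU F c γ * w3) := by
          rw [hx a ha.1.1, one_mul, (ccu γ (t * γ)).eq]
      _ = T.xU F a t * (T.xU F c γ * T.xU F a t) *
          (T.xU F a t * w3 * T.xU F a t * T.xU F c γ * w3) := by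
          rw [sw]; simp only [mul_assoc]
      _ = T.xU F a t * T.xU F c γ * (T.xU F a t * T.xU F a t) * w3 * T.xU F a t * T.xU F c γ * w3 := by
          simp only [mul_assoc]
      _ = _ := by rw [hx a ha.1.1, mul_one]; simp only [mul_assoc]
  rw [hsq] at hsplit
  have hmem : T.xU F u (t * γ) ∈ T.rootGen F (Stage T B a k L) := by
    rw [mul_eq_one_iff_eq_inv.mp hsplit]
    exact inv_mem (mul_mem h5 hw3)
  have hγ : γ = 0 := (mul_eq_zero.mp (not_mem h hS hSpos hu.1 hu.2.1 hnu hmem)).resolve_left ht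
  subst hγ
  simp only [xU_zero h.valid hc.1, one_mul] at hcj ⊢
  exact ⟨w3, hw3, hcj⟩

theorem elim_list {k : ℤ} {t : F} (ht : t ≠ 0) : ∀ L : List ℕ, (∀ d ∈ L, Level T B a k d) → L.Nodup →
    ∀ w ∈ T.rootGen F (Stage T B a k L), T.xU F a t * w * (T.xU F a t * w) = 1 →
    ∃ w' ∈ T.rootGen F (Stage T B a k []), Cj T F B (T.xU F a t * w) (T.xU F a t * w') := by
  intro L
  induction L with
  | nil => exact fun _ _ w hw _ => ⟨w, hw, cj_refl _ _⟩
  | cons c L ih =>
    intro hL hnd w hw hy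
    obtain ⟨hcL, hnd'⟩ := List.nodup_cons.mp hnd
    obtain ⟨w', hw', hc'⟩ := elim_one h hB ha hL hcL ht hw hy
    obtain ⟨w'', hw'', hc''⟩ :=
      ih (fun d hd => hL d (List.mem_cons_of_mem _ hd)) hnd' w' hw' (cj_sq hc' hy)
    exact ⟨w'', hw'', cj_trans hc' hc''⟩

theorem elim_level {t : F} (ht : t ≠ 0) {w : GL T.I F}
    (hw : w ∈ T.rootGen F (fun r => Perp T B r ∧ r ≠ a)) (hy : T.xU F a t * w * (T.xU F a t * w) = 1) :
    ∀ k : ℕ, ∃ w' ∈ T.rootGen F (Stage T B a k []), Cj T F B (T.xU F a t * w) (T.xU F a t * w') := by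
  classical
  intro k
  induction k with
  | zero =>
    refine ⟨w, rootGen_mono (fun r _ hr => ?_) hw, cj_refl _ _⟩
    exact ⟨hr, Or.inr (Or.inl (by have := bot_pos h hB ha hr.1; omega))⟩
  | succ k ih =>
    obtain ⟨w', hw', hc'⟩ := ih
    have hL : ∀ d ∈ (List.range T.n).filter (fun d => decide (Level T B a ((k : ℤ) + 1) d)),
        Level T B a ((k : ℤ) + 1) d := fun d hd => by simpa using (List.mem_filter.mp hd).2
    have hmem : w' ∈ T.rootGen F (Stage T B a ((k : ℤ) + 1)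
        ((List.range T.n).filter fun d => decide (Level T B a ((k : ℤ) + 1) d))) := by
      refine rootGen_mono (fun r _ hr => ⟨hr.1, ?_⟩) hw'
      obtain ⟨⟨hr1, hra⟩, q | q | ⟨d, hd, -⟩⟩ := hr
      · exact Or.inl q
      · rcases gr_range h hB ha hr1 hra with p | p | p
        · by_cases hk : (k : ℤ) + 1 < bot T a r
          · exact Or.inr (Or.inl hk)
          · refine Or.inr (Or.inr ⟨r, List.mem_filter.mpr ⟨List.mem_range.mpr hr1.1, ?_⟩, Or.inl rfl⟩)
            have : bot T a r = T.ht r := by rw [bot, if_neg (by omega), sub_zero]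
            exact decide_eq_true ⟨hr1, hra, p, by omega⟩
        · exact Or.inl p
        · by_cases hk : (k : ℤ) + 1 < bot T a r
          · exact Or.inr (Or.inl hk)
          · obtain ⟨d, N, hd, hda, hdp, e, hdh⟩ := top_bottom h hB ha hr1 p
            exact Or.inr (Or.inr ⟨d, List.mem_filter.mpr ⟨List.mem_range.mpr hd.1,
              decide_eq_true ⟨hd, hda, hdp, by omega⟩⟩, Or.inr ⟨N, e⟩⟩)
      · simp at hd
    obtain ⟨w'', hw'', hc''⟩ :=
      elim_list h hB ha ht _ hL (List.nodup_range.filter _) w' hmem (cj_sq hc' hy)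
    exact ⟨w'', by push_cast; exact hw'', cj_trans hc' hc''⟩

omit [CharP F 2] in
theorem ht_bound {r : ℕ} (hr : r < T.n) :
    T.ht r ≤ (((List.range T.n).map fun r => (T.ht r).toNat).sum : ℕ) := by
  have := List.le_sum_of_mem (List.mem_map.mpr ⟨r, List.mem_range.mpr hr, rfl⟩ :
    (T.ht r).toNat ∈ (List.range T.n).map fun r => (T.ht r).toNat)
  omega

/-- The part of an involution off a root can be moved into the orthogonal subsystem. -/
theorem eliminate {t : F} (ht : t ≠ 0) {w : GL T.I F}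
    (hw : w ∈ T.rootGen F (fun r => Perp T B r ∧ r ≠ a)) (hy : T.xU F a t * w * (T.xU F a t * w) = 1) :
    ∃ z ∈ T.rootGen F (Perp T (a :: B)), Cj T F B (T.xU F a t * w) (T.xU F a t * z) := by
  obtain ⟨w', hw', hc'⟩ := elim_level h hB ha ht hw hy ((List.range T.n).map fun r => (T.ht r).toNat).sum
  refine ⟨w', rootGen_mono (fun r _ hr => ?_) hw', hc'⟩
  obtain ⟨⟨hr1, hra⟩, hcase⟩ := hr
  have h0 : T.pair r a = 0 := by
    rcases hcase with q | q | ⟨d, hd, -⟩
    · exact q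
    · exfalso
      have h1 := ht_bound h hB ha hr1.1
      have h2 := (pos_facts h ha.1.1 ha.1.2.1).1
      have h3 : bot T a r ≤ T.ht r := by unfold bot; split <;> omega
      omega
    · simp at hd
  exact ⟨hr1.1, hr1.2.1, List.forall_mem_cons.mpr ⟨h0, hr1.2.2⟩⟩

end Elimination

section Main

omit [CharP F 2] in
theorem ge_closed {B : List ℕ} (hB : ∀ b ∈ B, b < T.n) {m : ℤ} (hm : 0 ≤ m) :
    T.Closed (fun r => Perp T B r ∧ m ≤ T.ht r) :=
  closed_of h fun r hr s hs pr ps u N e =>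
    ⟨perp_sum h hB pr.1 ps.1 e, by rw [ht_sum h hr hs e]; omega⟩

theorem lower_step {B : List ℕ} (hB : ∀ b ∈ B, b < T.n) {m : ℕ} (hm : 1 ≤ m) {y : GL T.I F}
    (hy1 : y ∈ T.rootGen F (fun r => Perp T B r ∧ (m : ℤ) ≤ T.ht r))
    (hy2 : y ∉ T.rootGen F (fun r => Perp T B r ∧ (m : ℤ) + 1 ≤ T.ht r))
    (hall : ∀ a, Ind T B a → y ∈ T.rootGen F (fun r => Perp T B r ∧ r ≠ a)) :
    ∃ y', Cj T F B y y' ∧ y' ∈ T.rootGen F (Perp T B) ∧
      y' ∉ T.rootGen F (fun r => Perp T B r ∧ (m : ℤ) ≤ T.ht r) := by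
  classical
  have hpos : ∀ {Q : ℕ → Prop} (r : ℕ), (Perp T B r ∧ Q r) → T.half ≤ r := fun r hr => hr.1.2.1
  have hne : ∀ k, T.ht k = m → T.Closed (fun r => Perp T B r ∧ ((m : ℤ) ≤ T.ht r ∧ r ≠ k)) :=
    fun k hk => closed_of h fun r hr s hs pr ps u N e => by
      have := ht_sum h hr hs e
      exact ⟨perp_sum h hB pr.1 ps.1 e, by omega, fun q => by subst q; omega⟩
  obtain ⟨k, hk, hk1, hk2⟩ : ∃ k, Perp T B k ∧ T.ht k = m ∧
      y ∉ T.rootGen F (fun r => Perp T B r ∧ ((m : ℤ) ≤ T.ht r ∧ r ≠ k)) := by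
    by_contra hc
    apply hy2
    have hind : ∀ L : List ℕ, (∀ l ∈ L, Perp T B l ∧ T.ht l = m) →
        y ∈ T.rootGen F (fun r => Perp T B r ∧ ((m : ℤ) ≤ T.ht r ∧ r ∉ L)) := by
      intro L
      induction L with
      | nil => exact fun _ => rootGen_mono (fun r _ hr => ⟨hr.1, hr.2, List.not_mem_nil⟩) hy1
      | cons k L ih =>
        intro hL
        have h1 := ih fun l hl => hL l (List.mem_cons_of_mem _ hl)
        obtain ⟨hk, hk1⟩ := hL k List.mem_cons_self
        have h2 : y ∈ T.rootGen F (fun r => Perp T B r ∧ ((m : ℤ) ≤ T.ht r ∧ r ≠ k)) := by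
          by_contra h2; exact hc ⟨k, hk, hk1, h2⟩
        refine rootGen_mono (fun r _ hr => ?_) (inter_mem h ?_ (hne k hk1) hpos hpos h1 h2)
        · exact ⟨hr.1.1, hr.1.2.1, List.not_mem_cons_of_ne_of_not_mem hr.2.2.2 hr.1.2.2⟩
        · refine closed_of h fun r hr s hs pr ps u N e => ?_
          have := ht_sum h hr hs e
          refine ⟨perp_sum h hB pr.1 ps.1 e, by omega, fun q => ?_⟩
          have := (hL u (List.mem_cons_of_mem _ q)).2
          omega
    refine rootGen_mono (fun r hr pr => ⟨pr.1, ?_⟩)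
      (hind ((List.range T.n).filter fun l => decide (Perp T B l ∧ T.ht l = m))
        fun l hl => by simpa using (List.mem_filter.mp hl).2)
    by_contra hlt
    exact pr.2.2 (List.mem_filter.mpr ⟨List.mem_range.mpr hr,
      decide_eq_true ⟨pr.1, by have := pr.2.1; omega⟩⟩)
  have hni : ¬ Ind T B k := fun hi =>
    hk2 (rootGen_mono (fun r _ hr => ⟨hr.1.1, hr.2.2, hr.1.2⟩)
      (inter_mem h (perp_ne_closed h hB hi) (ge_closed h hB (Int.natCast_nonneg m)) hpos hpos (hall k hi) hy1))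
  obtain ⟨b, hb, hkb, hbh⟩ := exists_ind_below h hB hk hni
  refine ⟨nb T F b * y * (nb T F b)⁻¹, cj_nb h hB hb.1 y, ?_, ?_⟩
  · have hmap : T.rootGen F (fun r => Perp T B r ∧ r ≠ b) ≤
        (T.rootGen F (Perp T B)).comap (MulAut.conj (nb T F b)).toMonoidHom := by
      refine rootGen_le fun r _ hr t => Subgroup.mem_comap.mpr ?_
      obtain ⟨r', hr', -, -, -, e⟩ := nb_image (F := F) h hB hb hr.1 hr.2
      show nb T F b * T.xU F r t * (nb T F b)⁻¹ ∈ _
      rw [e, mul_inv_cancel_right]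
      exact xU_mem_rootGen hr'.1 hr' t
    exact hmap (hall b hb)
  · intro hbad
    have hmap : T.rootGen F (fun r => Perp T B r ∧ (m : ℤ) ≤ T.ht r) ≤
        (T.rootGen F (fun r => Perp T B r ∧ (r ≠ b ∧ (m : ℤ) ≤ reflHt T b r))).comap
          (MulAut.conj (nb T F b)).toMonoidHom := by
      refine rootGen_le fun r _ hr t => Subgroup.mem_comap.mpr ?_
      have hrb : r ≠ b := fun q => by subst q; omega
      obtain ⟨r', hr', hr'b, -, hh, e⟩ := nb_image (F := F) h hB hb hr.1 hrb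
      show nb T F b * T.xU F r t * (nb T F b)⁻¹ ∈ _
      rw [e, mul_inv_cancel_right]
      exact xU_mem_rootGen (P := fun r => Perp T B r ∧ (r ≠ b ∧ (m : ℤ) ≤ reflHt T b r)) hr'.1
        ⟨hr', hr'b, hh.symm ▸ hr.2⟩ t
    have hy3 : y ∈ T.rootGen F (fun r => Perp T B r ∧ (r ≠ b ∧ (m : ℤ) ≤ reflHt T b r)) := by
      have h3 := hmap hbad
      rw [Subgroup.mem_comap] at h3
      have hi : nb T F b * nb T F b = 1 := mul_eq_one_iff_inv_eq.mpr (nb_inv h hb.1.1)
      have e : nb T F b * (nb T F b * y * (nb T F b)⁻¹) * (nb T F b)⁻¹ = y := by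
        rw [nb_inv h hb.1.1]
        simp only [← mul_assoc]
        rw [hi, one_mul, mul_assoc, hi, mul_one]
      exact e ▸ h3
    have hcl : T.Closed (fun r => Perp T B r ∧ (r ≠ b ∧ (m : ℤ) ≤ reflHt T b r)) :=
      closed_of h fun r hr s hs pr ps u N e => by
        refine ⟨perp_sum h hB pr.1 ps.1 e, fun q => hb.2 r s N pr.1 ps.1 (q ▸ e), ?_⟩
        have h1 := pr.2.2
        have h2 := ps.2.2
        simp only [reflHt] at h1 h2 ⊢
        rw [ht_sum h hr hs e, pair_sum h hb.1.1 hr hs e, add_mul]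
        omega
    refine hk2 (rootGen_mono (fun r _ hr => ⟨hr.2.1, hr.2.2, fun q => ?_⟩)
      (inter_mem h hcl (ge_closed h hB (Int.natCast_nonneg m)) hpos hpos hy3 hy1))
    subst q
    have h1 := hr.1.2.2
    have := (pos_facts h hb.1.1 hb.1.2.1).1
    rw [reflHt, hkb, one_mul, hk1] at h1
    omega

theorem lower {B : List ℕ} (hB : ∀ b ∈ B, b < T.n) : ∀ m : ℕ, ∀ y ∈ T.rootGen F (Perp T B),
    y ∉ T.rootGen F (fun r => Perp T B r ∧ (m : ℤ) ≤ T.ht r) →
    ∃ y', Cj T F B y y' ∧ ∃ a, Ind T B a ∧ y' ∈ T.rootGen F (Perp T B) ∧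
      y' ∉ T.rootGen F (fun r => Perp T B r ∧ r ≠ a) := by
  intro m
  induction m with
  | zero =>
    intro y hy hn
    refine absurd (rootGen_mono (fun r _ hr => ?_) hy) hn
    exact ⟨hr, by have := (pos_facts h hr.1 hr.2.1).1; push_cast; omega⟩
  | succ m ih =>
    intro y hy hn
    by_cases h1 : y ∈ T.rootGen F (fun r => Perp T B r ∧ (m : ℤ) ≤ T.ht r)
    · by_cases h2 : ∃ a, Ind T B a ∧ y ∉ T.rootGen F (fun r => Perp T B r ∧ r ≠ a)
      · obtain ⟨a, ha, h2⟩ := h2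
        exact ⟨y, cj_refl _ _, a, ha, hy, h2⟩
      · have hall : ∀ a, Ind T B a → y ∈ T.rootGen F (fun r => Perp T B r ∧ r ≠ a) :=
          fun a ha => by by_contra q; exact h2 ⟨a, ha, q⟩
        rcases Nat.eq_zero_or_pos m with rfl | hm
        · refine absurd (rootGen_mono (fun r _ hr => ?_) hy) hn
          exact ⟨hr, by have := (pos_facts h hr.1 hr.2.1).1; push_cast; omega⟩
        · obtain ⟨y', c1, hy', hn'⟩ := lower_step h hB hm h1 (by push_cast at hn; exact hn) hall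
          obtain ⟨y'', c2, rest⟩ := ih y' hy' hn'
          exact ⟨y'', cj_trans c1 c2, rest⟩
    · exact ih y hy h1

/-- A list of orthogonal positive roots with nonzero parameters. -/
def OrthList (T : Tbl) {F : Type*} [Field F] (P : List (ℕ × F)) : Prop :=
  (∀ p ∈ P, p.1 < T.n ∧ T.half ≤ p.1 ∧ p.2 ≠ 0) ∧ P.Pairwise fun p q => T.pair p.1 q.1 = 0

/-- An involution in the positive unipotent group is conjugate to a product over orthogonal roots. -/
theorem orth_form {x : GL T.I F} (hx : x ∈ T.rootGen F (Perp T [])) (hxx : x * x = 1) :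
    ∃ P : List (ℕ × F), OrthList T P ∧ ∃ g ∈ T.rootGen F (fun _ => True), g * x * g⁻¹ = T.gprod P := by
  suffices key : ∀ n (P : List (ℕ × F)), OrthList T P → T.n ≤ P.length + n →
      ∀ y ∈ T.rootGen F (Perp T (P.map Prod.fst)), y * y = 1 →
      ∃ P', OrthList T P' ∧ ∃ g ∈ T.rootGen F (fun _ => True), g * (T.gprod P * y) * g⁻¹ = T.gprod P' by
    simpa [gprod_nil] using key T.n [] ⟨fun _ hp => absurd hp List.not_mem_nil, List.Pairwise.nil⟩
      (by simp) x hx hxx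
  intro n
  induction n with
  | zero =>
    intro P hP hlen y hy _
    suffices y = 1 by exact ⟨P, hP, 1, one_mem _, by rw [this]; group⟩
    have hle : T.rootGen F (Perp T (P.map Prod.fst)) ≤ ⊥ := rootGen_le fun r hr pr t => by
      exfalso
      have hnd : (r :: P.map Prod.fst).Nodup := by
        refine List.nodup_cons.mpr ⟨fun hm => ?_, List.pairwise_map.mpr (hP.2.imp_of_mem ?_)⟩
        · have := pr.2.2 r hm
          rw [pair_self' h hr] at this; omega
        · intro p q hp _ hpq e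
          rw [← e, pair_self' h (hP.1 p hp).1] at hpq; omega
      have hsub : r :: P.map Prod.fst ⊆ List.range T.n := fun s hs => by
        rcases List.mem_cons.mp hs with rfl | hs
        · exact List.mem_range.mpr hr
        · obtain ⟨p, hp, rfl⟩ := List.mem_map.mp hs
          exact List.mem_range.mpr (hP.1 p hp).1
      have := (hnd.subperm hsub).length_le
      simp at this
      omega
    simpa using hle hy
  | succ n ih =>
    intro P hP hlen y hy hyy
    by_cases hy1 : y = 1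
    · exact ⟨P, hP, 1, one_mem _, by rw [hy1]; group⟩
    have hB : ∀ b ∈ P.map Prod.fst, b < T.n := fun b hb => by
      obtain ⟨p, hp, rfl⟩ := List.mem_map.mp hb
      exact (hP.1 p hp).1
    have hnot : y ∉ T.rootGen F (fun r => Perp T (P.map Prod.fst) r ∧
        (((List.range T.n).map fun r => (T.ht r).toNat).sum + 1 : ℕ) ≤ T.ht r) := by
      intro hm
      have hle : T.rootGen F (fun r => Perp T (P.map Prod.fst) r ∧
          (((List.range T.n).map fun r => (T.ht r).toNat).sum + 1 : ℕ) ≤ T.ht r) ≤ ⊥ :=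
        rootGen_le fun r hr pr t => by
          have := List.le_sum_of_mem (List.mem_map.mpr ⟨r, List.mem_range.mpr hr, rfl⟩ :
            (T.ht r).toNat ∈ (List.range T.n).map fun r => (T.ht r).toNat)
          exfalso; omega
      exact hy1 (Subgroup.mem_bot.mp (hle hm))
    obtain ⟨y1, c1, a, ha, hy1m, hy1n⟩ := lower h hB _ y hy hnot
    obtain ⟨t, w, hw, rfl⟩ := split_root h ha.1.1 (fun r _ hr => (em (r = a)).imp id fun q => ⟨hr, q⟩)
      (ind_norm h hB ha) hy1m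
    have ht : t ≠ 0 := fun q => hy1n (by rw [q, xU_zero h.valid ha.1.1, one_mul]; exact hw)
    obtain ⟨z, hz, c2⟩ := eliminate h hB ha ht hw (cj_sq c1 hyy)
    have c3 := cj_trans c1 c2
    obtain ⟨g, g1, g2, g3⟩ := c3
    have hacomm : Commute (T.gprod P) (T.xU F a t) := by
      refine Commute.list_prod_left _ _ fun u hu => ?_
      obtain ⟨p, hp, rfl⟩ := List.mem_map.mp hu
      exact (xU_comm_perp h hB ha.1 t p.1 (List.mem_map.mpr ⟨p, hp, rfl⟩) p.2).symm
    have hP' : OrthList T ((a, t) :: P) := by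
      refine ⟨List.forall_mem_cons.mpr ⟨⟨ha.1.1, ha.1.2.1, ht⟩, hP.1⟩, List.pairwise_cons.mpr ⟨?_, hP.2⟩⟩
      exact fun p hp => ha.1.2.2 p.1 (List.mem_map.mpr ⟨p, hp, rfl⟩)
    have hz2 : z * z = 1 := by
      have hsq : (T.xU F a t * z) * (T.xU F a t * z) = 1 := cj_sq ⟨g, g1, g2, g3⟩ hyy
      have hzc : Commute (T.xU F a t) z := by
        have : T.rootGen F (Perp T (a :: P.map Prod.fst)) ≤ Subgroup.centralizer {T.xU F a t} :=
          rootGen_le fun r hr pr s => Subgroup.mem_centralizer_singleton_iff.mpr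
            (commute h hr ha.1.1 (le_of_eq (pr.2.2 a List.mem_cons_self).symm) s t).eq
        exact (Subgroup.mem_centralizer_singleton_iff.mp (this hz)).symm
      rw [hzc.symm.mul_mul_mul_comm, xx_self h ha.1.1, one_mul] at hsq
      exact hsq
    obtain ⟨P', hP'', g', g'1, g'2⟩ := ih ((a, t) :: P) hP' (by simp; omega) z hz hz2
    refine ⟨P', hP'', g' * g, mul_mem g'1 g1, ?_⟩
    have hgP : Commute g (T.gprod P) := by
      refine Commute.list_prod_right _ _ fun u hu => ?_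
      obtain ⟨p, hp, rfl⟩ := List.mem_map.mp hu
      exact g2 p.1 (List.mem_map.mpr ⟨p, hp, rfl⟩) p.2
    rw [← g'2, gprod_cons]
    calc g' * g * (T.gprod P * y) * (g' * g)⁻¹ = g' * ((g * T.gprod P) * y * g⁻¹) * g'⁻¹ := by group
      _ = g' * (T.gprod P * (g * y * g⁻¹)) * g'⁻¹ := by rw [hgP.eq]; group
      _ = _ := by rw [g3, ← mul_assoc (T.gprod P), hacomm.eq]

end Main

end CfsgLib.SLInv
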