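import Cfsg.Agent.Lib.KnownB.SLInv.RankE8C0
import Cfsg.Agent.Lib.KnownB.SLInv.RankE8C1
import Cfsg.Agent.Lib.KnownB.SLInv.RankE8C2
import Cfsg.Agent.Lib.KnownB.SLInv.RankE8C3

/-!
Rank certificates for the involutions of E8.
-/
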